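import Mathlib

/-!
Homomorphisms from dihedral groups and from cyclic groups.
-/

set_option autoImplicit false

namespace Cfsg.Agent.Lib.Chev

variable {Γ : Type*} [Group Γ] {m : ℕ} [NeZero m]

theorem pow_val_add {x : Γ} (hx : x ^ m = 1) (i j : ZMod m) : x ^ (i + j).val = x ^ i.val * x ^ j.val := by
  rw [← pow_add, ZMod.val_add]
  have := Nat.mod_add_div (i.val + j.val) m
  conv_rhs => rw [← this, pow_add, pow_mul, hx, one_pow, mul_one]

theorem pow_val_sub {x : Γ} (hx : x ^ m = 1) (i j : ZMod m) : x ^ (j - i).val = (x ^ i.val)⁻¹ * x ^ j.val := by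
  have := pow_val_add hx i (j - i)
  rw [add_sub_cancel] at this
  rw [this]
  group

/-- A homomorphism from a cyclic group. -/
def cycHom (x : Γ) (hx : x ^ m = 1) : Multiplicative (ZMod m) →* Γ where
  toFun := fun i => x ^ (Multiplicative.toAdd i).val
  map_one' := by simp
  map_mul' := fun i j => pow_val_add hx _ _

/-- A homomorphism from a dihedral group. -/
def dihHom (c x : Γ) (hx : x ^ m = 1) (hc : c * c = 1) (hcx : c * x * c⁻¹ = x⁻¹) : DihedralGroup m →* Γ where
  toFun := fun g => match g with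
    | DihedralGroup.r i => x ^ i.val
    | DihedralGroup.sr i => c * x ^ i.val
  map_one' := by
    show x ^ (0 : ZMod m).val = 1
    simp
  map_mul' := by
    have hinv : c⁻¹ = c := inv_eq_of_mul_eq_one_left hc
    have hconj : ∀ n : ℕ, c * x ^ n * c⁻¹ = (x ^ n)⁻¹ := by
      intro n
      rw [← conj_pow, hcx, inv_pow]
    have hconj' : ∀ n : ℕ, x ^ n * c = c * (x ^ n)⁻¹ := by
      intro n
      calc x ^ n * c = (c * c) * x ^ n * c := by rw [hc, one_mul]
        _ = c * (c * x ^ n * c⁻¹) := by rw [hinv]; simp only [mul_assoc]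
        _ = _ := by rw [hconj]
    rintro (i | i) (j | j)
    · exact pow_val_add hx i j
    · show c * x ^ (j - i).val = x ^ i.val * (c * x ^ j.val)
      rw [pow_val_sub hx, ← mul_assoc (x ^ i.val) c, hconj', mul_assoc]
    · show c * x ^ (i + j).val = c * x ^ i.val * x ^ j.val
      rw [pow_val_add hx, mul_assoc]
    · show x ^ (j - i).val = c * x ^ i.val * (c * x ^ j.val)
      rw [pow_val_sub hx, mul_assoc c, ← mul_assoc (x ^ i.val) c, hconj']
      calc (x ^ i.val)⁻¹ * x ^ j.val = (c * c) * (x ^ i.val)⁻¹ * x ^ j.val := by rw [hc, one_mul]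
        _ = _ := by simp only [mul_assoc]

end Cfsg.Agent.Lib.Chev
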