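import Cfsg.Agent.Lib.Chev.Tw.Orth
import Cfsg.Agent.Lib.Chev.Tw.Frob
import Cfsg.Agent.Lib.Chev.Exc

/-!
The twisting automorphisms attached to the exceptional symmetries in characteristics 2 and 3.
-/

set_option autoImplicit false
set_option linter.unusedSimpArgs false
set_option linter.unusedVariables false
set_option linter.unusedSectionVars false

namespace Cfsg.Agent.Lib.Chev

open Cfsg Cfsg.Lie Matrix Cfsg.Agent.Lib.BN Cfsg.Agent.Lib.Chev.Tw

variable {D : ChevalleyDatum} {F : Type*} [Field F]

/-- The field maps. -/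
noncomputable def excφ (p : ℕ) [Fact p.Prime] [CharP F p] (f : F ≃+* F) (n : ℕ) : F →+* F :=
  if n = 1 then f.toRingHom else (frobenius F p).comp f.toRingHom

theorem excφ_one (p : ℕ) [Fact p.Prime] [CharP F p] (f : F ≃+* F) (t : F) : excφ p f 1 t = f t := by
  simp [excφ]

theorem excφ_p (p : ℕ) [Fact p.Prime] [CharP F p] (f : F ≃+* F) (t : F) : excφ p f p t = f t ^ p := by
  have : p ≠ 1 := (Fact.out : p.Prime).ne_one
  simp [excφ, this, frobenius_def]

/-- The automorphism from an exceptional symmetry and a field automorphism. -/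
noncomputable def TwAut.ofExc {p : ℕ} [Fact p.Prime] [CharP F p] (G : Good5 D) (E : ExcData D p)
    (M : CoxeterMatrix (Fin D.rank)) (hM : ∀ i j : Fin D.rank, G.cm i j = M i j)
    (hc : Subgroup.center (D.SteinbergGroup F) = ⊥) (ρi : ℕ → ℕ) (R : RhoT G.toGood3 E.ρ ρi) (f : F ≃+* F) :
    TwAut G.toGood3 F where
  σ := (G.excHom E M hM hc).comp (Classical.choose (field_aut (D := D) f)).toMonoidHom
  ρ := E.ρ
  ρi := fun i => ⟨ρi i, R.ilt i i.isLt⟩
  φ := fun r => excφ p f (E.lam r)
  ε := fun _ => 1
  ρ_lt := fun {r} hr => R.lt r hr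
  ρ_neg := fun {r} hr => R.neg r hr
  ρ_pos := fun {r} hr h => R.pos r hr h
  ρ_simple := fun i => R.simple i i.isLt
  ρ_W := fun i {r} hr => R.W i i.isLt r hr
  φ_neg := fun {r} hr => by rw [E.lam_neg hr]
  ε_cases := fun _ => Or.inl rfl
  ε_neg := fun _ => rfl
  hx := by
    intro r hr t
    apply Units.ext
    have h1 := Classical.choose_spec (field_aut (D := D) f) ⟨G.xg hr t, G.toGood2.xg_mem_grp hr t⟩ r t hr rfl
    have h2 := G.excHom_x E M hM hc hr h1
    refine h2.trans ?_
    show D.x F (E.ρ r) (f t ^ E.lam r) = D.x F (E.ρ r) (((1 : ℤ) : F) * excφ p f (E.lam r) t)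
    congr 1
    rw [Int.cast_one, one_mul]
    rcases E.lam_cases hr with h | h <;> rw [h]
    · rw [excφ_one, pow_one]
    · rw [excφ_p]

namespace TwAut

variable {G : Good3 D} (T : TwAut G F)

theorem s_root {r r' : ℕ} (hr : r < D.nroots) (hr' : r' < D.nroots) (hρ : T.ρ r = r') (hε : T.ε r = 1) (t : F) :
    T.s (G.xg hr t) = G.xg hr' (T.φ r t) := by
  rw [T.s_x]
  apply G.xg_congr hρ
  rw [hε]
  simp

end TwAut

namespace Good3

variable (G : Good3 D)

include G in
theorem wordMat_filter (l : List ℕ) (hl : ∀ r ∈ l, r < D.nroots) (t : ℕ → F) (P : ℕ → Bool)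
    (h : ∀ r ∈ l, P r = false → t r = 0) :
    D.wordMat F (l.map fun r => (r, t r)) = D.wordMat F ((l.filter P).map fun r => (r, t r)) := by
  induction l with
  | nil => rfl
  | cons a l ih =>
    have ih' := ih (fun r hr => hl r (List.mem_cons_of_mem _ hr)) (fun r hr => h r (List.mem_cons_of_mem _ hr))
    simp only [ChevalleyDatum.wordMat, List.map_cons, List.prod_cons] at ih' ⊢
    by_cases hP : P a = true
    · rw [List.filter_cons_of_pos hP]
      simp only [List.map_cons, List.prod_cons]
      rw [ih']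
    · rw [List.filter_cons_of_neg hP]
      rw [h a List.mem_cons_self (by simpa using hP), G.x_zero (hl a List.mem_cons_self), one_mul, ih']

include G in
/-- Uniqueness of coordinates on a list of positive roots. -/
theorem sub_word_inj (L : List ℕ) (hL : D.posRoots.filter (fun r => L.contains r) = L) (t t' : ℕ → F)
    (h : D.wordMat F (L.map fun r => (r, t r)) = D.wordMat F (L.map fun r => (r, t' r))) :
    ∀ r ∈ L, t r = t' r := by
  classical
  have hpos : ∀ r ∈ L, D.IsPosRoot r := by
    intro r hr
    rw [← hL] at hr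
    have := (List.mem_filter.mp hr).1
    have h2 : r < D.nroots ∧ D.IsPosRoot r := by simpa [ChevalleyDatum.posRoots] using this
    exact h2.2
  have hlt : ∀ r ∈ D.posRoots, r < D.nroots := by
    intro r hr
    have := (List.mem_filter.mp hr).1
    simpa using this
  set ft : (ℕ → F) → ℕ → F := fun t r => if r ∈ L then t r else 0 with hft
  have key : ∀ t : ℕ → F, D.wordMat F (D.posRoots.map fun r => (r, ft t r)) = D.wordMat F (L.map fun r => (r, t r)) := by
    intro t
    rw [G.wordMat_filter D.posRoots hlt (ft t) (fun r => L.contains r)]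
    · rw [hL]
      congr 1
      apply List.map_congr_left
      intro r hr
      simp [hft, hr]
    · intro r _ hr
      have : r ∉ L := by simpa using hr
      simp [hft, this]
  obtain ⟨g, hg, hv⟩ := G.toGood2.U_word_mem (ft t)
  have hzero : ∀ t : ℕ → F, ∀ r, ¬ D.IsPosRoot r → ft t r = 0 := by
    intro t r hr
    have : r ∉ L := fun h => hr (hpos r h)
    simp [hft, this]
  obtain ⟨t0, -, huniq⟩ := G.toGood2.U_normal_form g hg
  have e1 := huniq (ft t) ⟨hzero t, hv⟩
  have e2 := huniq (ft t') ⟨hzero t', by rw [hv, key, key, h]⟩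
  intro r hr
  have := congrFun (e1.trans e2.symm) r
  simpa [hft, hr] using this

end Good3

end Cfsg.Agent.Lib.Chev
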