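import Cfsg.Agent.Lib.Chev.Tab.F4e
import Cfsg.Agent.Lib.Chev.Tw.WChk

/-! The Weyl group of the twisted group of type F4. -/

set_option autoImplicit false
set_option maxRecDepth 1000000

namespace Cfsg.Agent.Lib.Chev.TwF4

/-- The elements of the Weyl group, as words in the orbits. -/
def words : List (List ℕ) :=
  [[], [0], [1], [1, 0], [0, 1], [0, 1, 0], [1, 0, 1], [1, 0, 1, 0], [0, 1, 0, 1], [0, 1, 0, 1, 0], [1, 0, 1, 0, 1], [1, 0, 1, 0, 1, 0], [0, 1, 0, 1, 0, 1], [0, 1, 0, 1, 0, 1, 0], [1, 0, 1, 0, 1, 0, 1], [1, 0, 1, 0, 1, 0, 1, 0]]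

/-- The images of the fundamental roots. -/
def imgB : ℕ := 0x2e58a0e30546a11e64d8a404062508691095618926047d1885a1892704a4e885a4062708a4e8956546a61e7d18a4058a252e6910e3064da1

/-- The images of the fundamental roots. -/
def img (a j : ℕ) : ℕ := cell imgB (7 * (a * 4 + j)) 127

/-- The action of the generators. -/
def nbrB : ℕ := 0x1a0380600f01e02c0700a0120340400c01601c0500600a0240200800e00c030020020140000400600001001

/-- The action of the generators. -/
def nbr (a i : ℕ) : ℕ := cell nbrB (11 * (a * 2 + i)) 2047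

end Cfsg.Agent.Lib.Chev.TwF4
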