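import Cfsg.Agent.Lib.Chev.Tw.ExcAut
import Cfsg.Agent.Lib.Chev.Tw.Core
import Cfsg.Agent.Lib.Chev.Exc1
import Cfsg.Prelude.Def_LieTwisted

/-!
The group ²G₂(q).
-/

set_option autoImplicit false
set_option maxRecDepth 1000000
set_option linter.unusedSimpArgs false
set_option linter.unusedVariables false
set_option linter.unusedSectionVars false

namespace Cfsg.Agent.Lib.Chev.TwG2

open Cfsg Cfsg.Lie Matrix Cfsg.Agent.Lib.BN Cfsg.Agent.Lib.Chev.Tw TabG2

/-- The nodes. -/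
def excI : List ℕ := [1, 0]

theorem rho_chk : chkRho fd.tbl chevG2.simple W (fun r => excR.getD r 0) (fun i => excI.getD i 0) = true := by decide +kernel
theorem lin_chk : chkLin fd.tbl chevG2.simple W rc = true := by decide +kernel

theorem rhoT : RhoT good3 exc.ρ (fun i => excI.getD i 0) := RhoT.of_chk (tbl_eq ▸ rho_chk)
theorem lin : Lin good3 := Lin.of_chk (tbl_eq ▸ lin_chk)

section

variable {K : Type*} [Field K] [CharP K 3]

/-- The twisting automorphism. -/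
noncomputable def TT (f : K ≃+* K) : TwAut good3 K :=
  TwAut.ofExc good5 exc CoxeterMatrix.G₂ (by set_option backward.isDefEq.respectTransparency false in decide +kernel)
    center_G2 _ rhoT f

/-- The single orbit. -/
def JJ : Fin 1 → List ℕ := ![[0, 1]]

/-- A word for the longest element. -/
def ww : Fin 1 → List (Fin chevG2.rank) :=
  ![[⟨0, by decide⟩, ⟨1, by decide⟩, ⟨0, by decide⟩, ⟨1, by decide⟩, ⟨0, by decide⟩, ⟨1, by decide⟩]]

theorem orb_chk : chkOrb fd.tbl W (fun r => excR.getD r 0) (fun i => excI.getD i 0) [0, 1] [0, 1, 0, 1, 0, 1] = true := by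
  decide +kernel

theorem orb (f : K ≃+* K) (i : Fin 1) : OrbT good3 (TT f).ρ (TT f).ρi (JJ i) (ww i) := by
  fin_cases i
  exact OrbT.of_chk (ρi' := fun i => excI.getD i 0) (fun _ => rfl) (tbl_eq ▸ orb_chk)

theorem h6 : 6 < chevG2.nroots := by decide
theorem h7 : 7 < chevG2.nroots := by decide
theorem h8 : 8 < chevG2.nroots := by decide
theorem h9 : 9 < chevG2.nroots := by decide
theorem h10 : 10 < chevG2.nroots := by decide
theorem h11 : 11 < chevG2.nroots := by decide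

/-- Root elements. -/
noncomputable abbrev xb (t : K) : GL chevG2.Idx K := good3.xg h6 t
/-- Root elements. -/
noncomputable abbrev xa (t : K) : GL chevG2.Idx K := good3.xg h7 t
/-- Root elements. -/
noncomputable abbrev xc (t : K) : GL chevG2.Idx K := good3.xg h8 t
/-- Root elements. -/
noncomputable abbrev xd (t : K) : GL chevG2.Idx K := good3.xg h9 t
/-- Root elements. -/
noncomputable abbrev xe (t : K) : GL chevG2.Idx K := good3.xg h10 t
/-- Root elements. -/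
noncomputable abbrev xh (t : K) : GL chevG2.Idx K := good3.xg h11 t

theorem three_zero : (3 : K) = 0 := by
  have := CharP.cast_eq_zero K 3
  exact_mod_cast this

theorem neg_two : (-2 : K) = 1 := by
  have : (-2 : K) - 1 = -3 := by ring
  have h3 := three_zero (K := K)
  rw [h3, neg_zero] at this
  exact sub_eq_zero.mp this

theorem rel_ab (t u : K) : xa u * xb t = xb t * xa u * xc (-(t * u)) * xd (-(t * u ^ 2)) * xe (t * u ^ 3) * xh (t ^ 2 * u ^ 3) := by
  apply Units.ext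
  have := good3.Phi_all (F := K) h6 h7 (by decide) (by decide +kernel) t u
  have e : chevG2.commTerms 6 7 = [(8, 1, 1, 1), (9, 1, 1, 2), (10, -1, 1, 3), (11, -2, 2, 3)] := by decide +kernel
  simp only [ChevalleyDatum.commWord, e, ChevalleyDatum.wordMat] at this
  simp only [Units.val_mul, Good0.xg_val]
  rw [this]
  simp only [List.map_cons, List.map_nil, List.prod_cons, List.prod_nil, mul_one, mul_assoc]
  push_cast
  have e1 : ((1 : K) * ((-t) ^ 1 * u ^ 1)) = -(t * u) := by ring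
  have e2 : ((1 : K) * ((-t) ^ 1 * u ^ 2)) = -(t * u ^ 2) := by ring
  have e3 : ((-1 : K) * ((-t) ^ 1 * u ^ 3)) = t * u ^ 3 := by ring
  have e4 : ((-2 : K) * ((-t) ^ 2 * u ^ 3)) = t ^ 2 * u ^ 3 := by
    rw [neg_two]
    ring
  rw [e1, e2, e3, e4]

theorem cm_cd (s t : K) : xc s * xd t = xd t * xc s := by
  apply Units.ext
  have := good3.Phi_all (F := K) h9 h8 (by decide) (by decide +kernel) t s
  have e : chevG2.commTerms 9 8 = [(11, -3, 1, 1)] := by decide +kernel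
  simp only [ChevalleyDatum.commWord, e, ChevalleyDatum.wordMat] at this
  simp only [Units.val_mul, Good0.xg_val]
  rw [this]
  simp only [List.map_cons, List.map_nil, List.prod_cons, List.prod_nil, mul_one]
  push_cast
  have e1 : ((-3 : K) * (-t) ^ 1 * s ^ 1) = 0 := by
    rw [neg_eq_neg_one_mul (3 : K), three_zero]
    ring
  rw [e1, good3.x_zero h11, mul_one]

theorem cm_ce (s t : K) : xc s * xe t = xe t * xc s :=
  good3.xg_comm_nil h10 h8 (by decide) (by decide +kernel) (by decide +kernel) t s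
theorem cm_ch (s t : K) : xc s * xh t = xh t * xc s :=
  good3.xg_comm_nil h11 h8 (by decide) (by decide +kernel) (by decide +kernel) t s
theorem cm_de (s t : K) : xd s * xe t = xe t * xd s :=
  good3.xg_comm_nil h10 h9 (by decide) (by decide +kernel) (by decide +kernel) t s
theorem cm_dh (s t : K) : xd s * xh t = xh t * xd s :=
  good3.xg_comm_nil h11 h9 (by decide) (by decide +kernel) (by decide +kernel) t s
theorem cm_eh (s t : K) : xe s * xh t = xh t * xe s :=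
  good3.xg_comm_nil h11 h10 (by decide) (by decide +kernel) (by decide +kernel) t s

/-- The table order. -/
noncomputable def Tab (q1 q2 q3 q4 q5 q6 : K) : GL chevG2.Idx K :=
  xb q1 * xa q2 * xc q3 * xd q4 * xe q5 * xh q6

/-- The order of the words. -/
noncomputable def Om (p1 p2 p3 p4 p5 p6 : K) : GL chevG2.Idx K :=
  xa p1 * xb p2 * xc p3 * xd p4 * xe p5 * xh p6

theorem zz_mul (a b c d a' b' c' d' : K) :
    (xc a * xd b * xe c * xh d) * (xc a' * xd b' * xe c' * xh d') =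
      xc (a + a') * xd (b + b') * xe (c + c') * xh (d + d') := by
  have m1 : xc (a + a') = xc a * xc a' := (good3.xg_mul h8 a a').symm
  have m2 : xd (b + b') = xd b * xd b' := (good3.xg_mul h9 b b').symm
  have m3 : xe (c + c') = xe c * xe c' := (good3.xg_mul h10 c c').symm
  have m4 : xh (d + d') = xh d * xh d' := (good3.xg_mul h11 d d').symm
  rw [m1, m2, m3, m4]
  have e1 := cm_cd a' b
  have e2 := cm_ce a' c
  have e3 := cm_ch a' d
  have e4 := cm_de b' c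
  have e5 := cm_dh b' d
  have e6 := cm_eh c' d
  calc _ = xc a * xd b * xe c * (xh d * xc a') * xd b' * xe c' * xh d' := by group
    _ = xc a * xd b * (xe c * xc a') * xh d * xd b' * xe c' * xh d' := by rw [← e3]; group
    _ = xc a * (xd b * xc a') * xe c * xh d * xd b' * xe c' * xh d' := by rw [← e2]; group
    _ = xc a * xc a' * xd b * xe c * (xh d * xd b') * xe c' * xh d' := by rw [← e1]; group
    _ = xc a * xc a' * xd b * (xe c * xd b') * xh d * xe c' * xh d' := by rw [← e5]; group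
    _ = xc a * xc a' * xd b * xd b' * xe c * (xh d * xe c') * xh d' := by rw [← e4]; group
    _ = xc a * xc a' * (xd b * xd b') * (xe c * xe c') * (xh d * xh d') := by rw [← e6]; group

theorem Om_eq (p1 p2 p3 p4 p5 p6 : K) :
    Om p1 p2 p3 p4 p5 p6 = Tab p2 p1 (p3 - p2 * p1) (p4 - p2 * p1 ^ 2) (p5 + p2 * p1 ^ 3) (p6 + p2 ^ 2 * p1 ^ 3) := by
  unfold Om Tab
  have h := zz_mul (-(p2 * p1)) (-(p2 * p1 ^ 2)) (p2 * p1 ^ 3) (p2 ^ 2 * p1 ^ 3) p3 p4 p5 p6
  have e1 : -(p2 * p1) + p3 = p3 - p2 * p1 := by ring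
  have e2 : -(p2 * p1 ^ 2) + p4 = p4 - p2 * p1 ^ 2 := by ring
  have e3 : p2 * p1 ^ 3 + p5 = p5 + p2 * p1 ^ 3 := by ring
  have e4 : p2 ^ 2 * p1 ^ 3 + p6 = p6 + p2 ^ 2 * p1 ^ 3 := by ring
  rw [e1, e2, e3, e4] at h
  calc xa p1 * xb p2 * xc p3 * xd p4 * xe p5 * xh p6
      = (xa p1 * xb p2) * (xc p3 * xd p4 * xe p5 * xh p6) := by group
    _ = (xb p2 * xa p1) * ((xc (-(p2 * p1)) * xd (-(p2 * p1 ^ 2)) * xe (p2 * p1 ^ 3) * xh (p2 ^ 2 * p1 ^ 3)) * (xc p3 * xd p4 * xe p5 * xh p6)) := by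
        rw [rel_ab]; group
    _ = _ := by rw [h]; group

/-- The list of positive roots. -/
theorem posRoots_eq : chevG2.posRoots = [6, 7, 8, 9, 10, 11] := by decide +kernel

theorem Tab_val (q1 q2 q3 q4 q5 q6 : K) :
    ((Tab q1 q2 q3 q4 q5 q6 : GL chevG2.Idx K) : Matrix chevG2.Idx chevG2.Idx K) =
      chevG2.wordMat K ([6, 7, 8, 9, 10, 11].map fun r =>
        (r, if r = 6 then q1 else if r = 7 then q2 else if r = 8 then q3 else if r = 9 then q4 else if r = 10 then q5 else q6)) := by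
  simp [Tab, ChevalleyDatum.wordMat, mul_assoc]

theorem Tab_inj {q1 q2 q3 q4 q5 q6 q1' q2' q3' q4' q5' q6' : K}
    (h : Tab q1 q2 q3 q4 q5 q6 = Tab q1' q2' q3' q4' q5' q6') :
    q1 = q1' ∧ q2 = q2' ∧ q3 = q3' ∧ q4 = q4' ∧ q5 = q5' ∧ q6 = q6' := by
  have h1 := congrArg (fun g : GL chevG2.Idx K => (g : Matrix chevG2.Idx chevG2.Idx K)) h
  simp only [Tab_val] at h1
  have h2 := good3.sub_word_inj [6, 7, 8, 9, 10, 11] (by rw [posRoots_eq]; decide) _ _ h1
  have a1 := h2 6 (by simp)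
  have a2 := h2 7 (by simp)
  have a3 := h2 8 (by simp)
  have a4 := h2 9 (by simp)
  have a5 := h2 10 (by simp)
  have a6 := h2 11 (by simp)
  simp at a1 a2 a3 a4 a5 a6
  exact ⟨a1, a2, a3, a4, a5, a6⟩

theorem U_exists {c : GL chevG2.Idx K} (hc : c ∈ chevG2.posUnipotent K) :
    ∃ q1 q2 q3 q4 q5 q6 : K, c = Tab q1 q2 q3 q4 q5 q6 := by
  obtain ⟨t, ⟨-, h⟩, -⟩ := good3.toGood2.U_normal_form c hc
  refine ⟨t 6, t 7, t 8, t 9, t 10, t 11, Units.ext ?_⟩
  rw [h, posRoots_eq]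
  simp [Tab, ChevalleyDatum.wordMat, mul_assoc]

theorem Om_exists {c : GL chevG2.Idx K} (hc : c ∈ chevG2.posUnipotent K) :
    ∃ p1 p2 p3 p4 p5 p6 : K, c = Om p1 p2 p3 p4 p5 p6 := by
  obtain ⟨q1, q2, q3, q4, q5, q6, rfl⟩ := U_exists hc
  refine ⟨q2, q1, q3 + q1 * q2, q4 + q1 * q2 ^ 2, q5 - q1 * q2 ^ 3, q6 - q1 ^ 2 * q2 ^ 3, ?_⟩
  rw [Om_eq]
  congr 1 <;> ring

theorem rho_6 : exc.ρ 6 = 7 := by decide +kernel
theorem rho_7 : exc.ρ 7 = 6 := by decide +kernel
theorem rho_8 : exc.ρ 8 = 10 := by decide +kernel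
theorem rho_9 : exc.ρ 9 = 11 := by decide +kernel
theorem rho_10 : exc.ρ 10 = 8 := by decide +kernel
theorem rho_11 : exc.ρ 11 = 9 := by decide +kernel
theorem lam_6 : exc.lam 6 = 1 := by decide +kernel
theorem lam_7 : exc.lam 7 = 3 := by decide +kernel
theorem lam_8 : exc.lam 8 = 3 := by decide +kernel
theorem lam_9 : exc.lam 9 = 3 := by decide +kernel
theorem lam_10 : exc.lam 10 = 1 := by decide +kernel
theorem lam_11 : exc.lam 11 = 1 := by decide +kernel

variable (f : K ≃+* K)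

theorem s_b (t : K) : (TT f).s (xb t) = xa (f t) := by
  have := (TT f).s_root h6 h7 rho_6 rfl t
  refine this.trans ?_
  show good3.xg h7 (excφ 3 f (exc.lam 6) t) = _
  rw [lam_6, excφ_one]
theorem s_a (t : K) : (TT f).s (xa t) = xb (f t ^ 3) := by
  have := (TT f).s_root h7 h6 rho_7 rfl t
  refine this.trans ?_
  show good3.xg h6 (excφ 3 f (exc.lam 7) t) = _
  rw [lam_7, excφ_p]
theorem s_c (t : K) : (TT f).s (xc t) = xe (f t ^ 3) := by
  have := (TT f).s_root h8 h10 rho_8 rfl t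
  refine this.trans ?_
  show good3.xg h10 (excφ 3 f (exc.lam 8) t) = _
  rw [lam_8, excφ_p]
theorem s_d (t : K) : (TT f).s (xd t) = xh (f t ^ 3) := by
  have := (TT f).s_root h9 h11 rho_9 rfl t
  refine this.trans ?_
  show good3.xg h11 (excφ 3 f (exc.lam 9) t) = _
  rw [lam_9, excφ_p]
theorem s_e (t : K) : (TT f).s (xe t) = xc (f t) := by
  have := (TT f).s_root h10 h8 rho_10 rfl t
  refine this.trans ?_
  show good3.xg h8 (excφ 3 f (exc.lam 10) t) = _
  rw [lam_10, excφ_one]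
theorem s_h (t : K) : (TT f).s (xh t) = xd (f t) := by
  have := (TT f).s_root h11 h9 rho_11 rfl t
  refine this.trans ?_
  show good3.xg h9 (excφ 3 f (exc.lam 11) t) = _
  rw [lam_11, excφ_one]

theorem xm (r : ℕ) (hr : r < chevG2.nroots) (t : K) : good3.xg hr t ∈ chevG2.group K := good3.toGood2.xg_mem_grp hr t

theorem Om_mem (p1 p2 p3 p4 p5 p6 : K) : Om p1 p2 p3 p4 p5 p6 ∈ chevG2.group K :=
  Subgroup.mul_mem _ (Subgroup.mul_mem _ (Subgroup.mul_mem _ (Subgroup.mul_mem _ (Subgroup.mul_mem _ (xm _ _ _) (xm _ _ _))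
    (xm _ _ _)) (xm _ _ _)) (xm _ _ _)) (xm _ _ _)

theorem s_Om (p1 p2 p3 p4 p5 p6 : K) :
    (TT f).s (Om p1 p2 p3 p4 p5 p6) = Tab (f p1 ^ 3) (f p2) (f p5) (f p6) (f p3 ^ 3) (f p4 ^ 3) := by
  unfold Om Tab
  have m1 := xm _ h7 p1
  have m2 := xm _ h6 p2
  have m3 := xm _ h8 p3
  have m4 := xm _ h9 p4
  have m5 := xm _ h10 p5
  have m6 := xm _ h11 p6
  rw [(TT f).s_mul (Subgroup.mul_mem _ (Subgroup.mul_mem _ (Subgroup.mul_mem _ (Subgroup.mul_mem _ m1 m2) m3) m4) m5) m6,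
    (TT f).s_mul (Subgroup.mul_mem _ (Subgroup.mul_mem _ (Subgroup.mul_mem _ m1 m2) m3) m4) m5,
    (TT f).s_mul (Subgroup.mul_mem _ (Subgroup.mul_mem _ m1 m2) m3) m4,
    (TT f).s_mul (Subgroup.mul_mem _ m1 m2) m3,
    (TT f).s_mul m1 m2, s_a, s_b, s_c, s_d, s_e, s_h]
  have h := zz_mul 0 0 (f p3 ^ 3) (f p4 ^ 3) (f p5) (f p6) 0 0
  simp only [good3.xg_zero, one_mul, mul_one, zero_add, add_zero] at h
  calc _ = xb (f p1 ^ 3) * xa (f p2) * (xe (f p3 ^ 3) * xh (f p4 ^ 3) * (xc (f p5) * xd (f p6))) := by group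
    _ = _ := by rw [h]; group

/-- The word. -/
noncomputable def WW (t u v : K) : GL chevG2.Idx K :=
  Om (f t) t (f t * t + f u) (f t ^ 2 * t + f v) u v

theorem add_cube (a b : K) : (a + b) ^ 3 = a ^ 3 + b ^ 3 := add_pow_char a b 3

section

variable (hf3 : ∀ t, f (f t) ^ 3 = t)
include hf3

theorem WW_fixed (t u v : K) : (TT f).s (WW f t u v) = WW f t u v := by
  unfold WW
  rw [s_Om, Om_eq]
  congr 1
  · exact hf3 t
  · ring
  · ring
  · rw [map_add, map_mul, add_cube, mul_pow, hf3, hf3]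
    ring
  · rw [map_add, map_mul, map_pow, add_cube, mul_pow, ← pow_mul, mul_comm 2 3, pow_mul, hf3, hf3]
    ring

end

theorem hsp (r : ℕ) (hr : r < chevG2.nroots) (h1 : Good2.NN chevG2 ≤ r) : Sp chevG2 [0, 1] r := by
  refine ⟨(good3.toGood2.pos_iff hr).mpr h1, ?_⟩
  have : inSubT (tblOf chevG2) [0, 1] r = true := by
    have hN : Good2.NN chevG2 = 6 := by decide
    have hr' : r < 12 := hr
    rw [hN] at h1
    interval_cases r <;> exact (by decide +kernel)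
  exact (inSubT_iff hr).mp this

theorem Sp_eq : rG chevG2 K (Sp chevG2 [0, 1]) = chevG2.posUnipotent K := by
  apply le_antisymm
  · exact rG_mono (fun r h => h.1)
  · rw [posUnipotent_eq]
    exact rG_mono (fun r h => hsp r h.1 ((good3.toGood2.pos_iff h.1).mp h))

theorem Om_U (p1 p2 p3 p4 p5 p6 : K) : Om p1 p2 p3 p4 p5 p6 ∈ chevG2.posUnipotent K := by
  rw [← Sp_eq]
  have hN : Good2.NN chevG2 = 6 := by decide
  have m (r : ℕ) (hr : r < chevG2.nroots) (h1 : 6 ≤ r) (t : K) : good3.xg hr t ∈ rG chevG2 K (Sp chevG2 [0, 1]) :=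
    good3.xg_mem hr (hsp r hr (by rw [hN]; exact h1)) t
  exact Subgroup.mul_mem _ (Subgroup.mul_mem _ (Subgroup.mul_mem _ (Subgroup.mul_mem _ (Subgroup.mul_mem _ (m _ _ (by norm_num) _)
    (m _ _ (by norm_num) _)) (m _ _ (by norm_num) _)) (m _ _ (by norm_num) _)) (m _ _ (by norm_num) _)) (m _ _ (by norm_num) _)

section

variable (hf3 : ∀ t, f (f t) ^ 3 = t)
include hf3

theorem X_iff {c : GL chevG2.Idx K} :
    c ∈ (TT f).XJ [0, 1] ↔ ∃ t u v, c = WW f t u v := by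
  constructor
  · rintro ⟨h1, -, h3⟩
    have hU : c ∈ chevG2.posUnipotent K := by rwa [← Sp_eq]
    obtain ⟨p1, p2, p3, p4, p5, p6, rfl⟩ := Om_exists hU
    rw [s_Om, Om_eq] at h3
    obtain ⟨a1, a2, a3, a4, a5, a6⟩ := Tab_inj h3
    refine ⟨p2, p5, p6, ?_⟩
    unfold WW
    have e1 : p1 = f p2 := a2.symm
    have e3 : p3 = f p2 * p2 + f p5 := by
      rw [a3, e1]
      ring
    have e4 : p4 = f p2 ^ 2 * p2 + f p6 := by
      rw [a4, e1]
      ring
    rw [e1, e3, e4]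
  · rintro ⟨t, u, v, rfl⟩
    refine ⟨?_, Om_mem _ _ _ _ _ _, WW_fixed f hf3 t u v⟩
    rw [Sp_eq]
    exact Om_U _ _ _ _ _ _

end

theorem invD : InvD (good5.inv) := ⟨good5.inv_ρ, good5.inv_ε⟩

theorem Om_ne {t u v : K} (ht : t ≠ 0) : WW f t u v ≠ 1 := by
  intro h
  unfold WW at h
  rw [Om_eq] at h
  have e : (1 : GL chevG2.Idx K) = Tab 0 0 0 0 0 0 := by
    simp [Tab, good3.xg_zero]
  rw [e] at h
  exact ht (Tab_inj h).1

section Main

variable (hf3 : ∀ t, f (f t) ^ 3 = t)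
include hf3

theorem sys : TwSys (TT f) JJ ww where
  orb := orb f
  lin := lin
  disj := by
    intro i i' hne
    exact absurd (Subsingleton.elim i i') hne
  cover := by
    rintro ⟨x, hx⟩
    have hx2 : x < 2 := hx
    refine ⟨0, ?_⟩
    show x ∈ [0, 1]
    interval_cases x <;> simp
  ntX := by
    intro i
    fin_cases i
    exact ⟨WW f 1 0 0, (X_iff f hf3).mpr ⟨1, 0, 0, rfl⟩, Om_ne f one_ne_zero⟩
  ntY := by
    intro i
    fin_cases i
    exact ⟨TwAut.iot good5.inv K (WW f 1 0 0), (TT f).iot_X invD ((X_iff f hf3).mpr ⟨1, 0, 0, rfl⟩),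
      fun h => Om_ne f one_ne_zero (TwAut.iot_ne h)⟩

variable {e : ℕ} (hf : ∀ t, f t = t ^ e)
include hf

theorem WW_val (t u v : K) :
    ((WW f t u v : GL chevG2.Idx K) : Matrix chevG2.Idx chevG2.Idx K) = chevG2.wordMat K (reeWordU e t u v) := by
  have e1 : t ^ (e + 1) = f t * t := by rw [hf, pow_succ]
  have e2 : t ^ (2 * e + 1) = f t ^ 2 * t := by rw [hf, pow_succ, mul_comm 2 e, pow_mul]
  simp only [reeWordU, e1, e2, ← hf, WW, Om, g2a, g2b, g2ab, g2aab, g2aaab, g2aaabb]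
  simp [ChevalleyDatum.wordMat, mul_assoc]

theorem iot_WW_val (t u v : K) :
    ((TwAut.iot good5.inv K (WW f t u v) : GL chevG2.Idx K) : Matrix chevG2.Idx chevG2.Idx K) = chevG2.wordMat K (reeWordV e t u v) := by
  have e1 : t ^ (e + 1) = f t * t := by rw [hf, pow_succ]
  have e2 : t ^ (2 * e + 1) = f t ^ 2 * t := by rw [hf, pow_succ, mul_comm 2 e, pow_mul]
  have i1 := fun (r : ℕ) (hr : r < chevG2.nroots) (t : K) => TwAut.iot_x (F := K) invD good3 hr t
  simp only [reeWordV, reeWordU, e1, e2, ← hf, WW, Om, g2a, g2b, g2ab, g2aab, g2aaab, g2aaabb, TwAut.iot_mul, i1]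
  have n1 : chevG2.negIdx.getD 7 0 = chevG2.neg 7 := rfl
  simp [ChevalleyDatum.wordMat, ChevalleyDatum.negWord, mul_assoc, ChevalleyDatum.neg]

theorem AA_eq : (TT f).AA JJ = twistedG2 K e := by
  apply le_antisymm
  · rw [TwAut.AA, Subgroup.closure_le]
    intro x hx
    obtain ⟨i, hx⟩ := Set.mem_iUnion.mp hx
    apply Subgroup.subset_closure
    fin_cases i
    rcases hx with hx | hx
    · obtain ⟨t, u, v, rfl⟩ := (X_iff f hf3).mp hx
      exact ⟨reeWordU e t u v, ⟨t, u, v, Or.inl rfl⟩, WW_val f hf3 hf t u v⟩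
    · obtain ⟨c, hc, rfl⟩ := ((TT f).mem_Y_iff invD).mp hx
      obtain ⟨t, u, v, rfl⟩ := (X_iff f hf3).mp hc
      exact ⟨reeWordV e t u v, ⟨t, u, v, Or.inr rfl⟩, iot_WW_val f hf3 hf t u v⟩
  · apply (Subgroup.closure_le _).mpr
    rintro g ⟨w, ⟨t, u, v, rfl | rfl⟩, hg⟩
    · have : g = WW f t u v := Units.ext (by rw [hg, WW_val f hf3 hf])
      rw [this]
      exact (TT f).X_le_AA JJ 0 ((X_iff f hf3).mpr ⟨t, u, v, rfl⟩)
    · have : g = TwAut.iot good5.inv K (WW f t u v) := Units.ext (by rw [hg, iot_WW_val f hf3 hf])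
      rw [this]
      exact (TT f).Y_le_AA JJ 0 ((TT f).iot_X invD ((X_iff f hf3).mpr ⟨t, u, v, rfl⟩))

omit hf hf3 in
theorem WW_inj {t u v t' u' v' : K} (h : WW f t u v = WW f t' u' v') : t = t' ∧ u = u' ∧ v = v' := by
  unfold WW at h
  rw [Om_eq, Om_eq] at h
  obtain ⟨a1, a2, a3, a4, a5, a6⟩ := Tab_inj h
  subst a1
  rw [add_right_cancel_iff] at a5 a6
  exact ⟨rfl, a5, a6⟩

theorem U1_iff {g : GL chevG2.Idx K} :
    g ∈ chevG2.posUnipotent K ⊓ twistedG2 K e ↔ ∃ t u v, g = WW f t u v := by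
  rw [← AA_eq f hf3 hf]
  constructor
  · rintro ⟨h1, h2⟩
    have h3 : g ∈ (TT f).XJ [0, 1] := ⟨by rwa [Sp_eq], (TT f).AA_le_Fx JJ h2⟩
    exact (X_iff f hf3).mp h3
  · rintro ⟨t, u, v, rfl⟩
    have h3 := (X_iff f hf3).mpr ⟨t, u, v, rfl⟩
    refine ⟨?_, (TT f).X_le_AA JJ 0 h3⟩
    rw [← Sp_eq]
    exact h3.1

theorem card_U1 [Fintype K] : Nat.card ↥(chevG2.posUnipotent K ⊓ twistedG2 K e) = (Fintype.card K) ^ 3 := by
  classical
  have hb : Function.Bijective (fun x : K × K × K =>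
      (⟨WW f x.1 x.2.1 x.2.2, (U1_iff f hf3 hf).mpr ⟨_, _, _, rfl⟩⟩ : ↥(chevG2.posUnipotent K ⊓ twistedG2 K e))) := by
    constructor
    · rintro ⟨t, u, v⟩ ⟨t', u', v'⟩ h
      obtain ⟨e1, e2, e3⟩ := WW_inj f (congrArg Subtype.val h)
      subst e1 e2 e3
      rfl
    · rintro ⟨g, hg⟩
      obtain ⟨t, u, v, rfl⟩ := (U1_iff f hf3 hf).mp hg
      exact ⟨(t, u, v), rfl⟩
  rw [← Nat.card_congr (Equiv.ofBijective _ hb)]
  simp [Nat.card_eq_fintype_card, pow_succ]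
  ring

end Main

theorem JJ_eq (i : Fin 1) : JJ i = ([[0, 1]] : List (List ℕ)).getD i [] := by
  fin_cases i
  rfl

theorem ww_eq (i : Fin 1) : (ww i).map Fin.val = ([[0, 1, 0, 1, 0, 1]] : List (List ℕ)).getD i [] := by
  fin_cases i
  rfl

theorem long_chk : chkLong fd.tbl W (fun i => ([[0, 1]] : List (List ℕ)).getD i [])
    (fun i => ([[0, 1, 0, 1, 0, 1]] : List (List ℕ)).getD i []) [0] = true := by decide +kernel

theorem hN6 : Good2.NN chevG2 = 6 := by decide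

theorem Om_split (p1 p2 p3 p4 p5 p6 : K) :
    ∃ y ∈ rG chevG2 K (Qp chevG2 [0]), Om p1 p2 p3 p4 p5 p6 = xa p1 * y := by
  have m (r : ℕ) (hr : r < chevG2.nroots) (h1 : 6 ≤ r) (h2 : inSubT (tblOf chevG2) [0] r = false) (t : K) :
      good3.xg hr t ∈ rG chevG2 K (Qp chevG2 [0]) :=
    good3.xg_mem hr (good3.qp_of hr (by rw [hN6]; exact h1) h2) t
  refine ⟨xb p2 * xc p3 * xd p4 * xe p5 * xh p6, ?_, ?_⟩
  · exact Subgroup.mul_mem _ (Subgroup.mul_mem _ (Subgroup.mul_mem _ (Subgroup.mul_mem _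
      (m _ _ (by norm_num) (tbl_eq ▸ (by decide +kernel : inSubT fd.tbl [0] 6 = false)) _)
      (m _ _ (by norm_num) (tbl_eq ▸ (by decide +kernel : inSubT fd.tbl [0] 8 = false)) _))
      (m _ _ (by norm_num) (tbl_eq ▸ (by decide +kernel : inSubT fd.tbl [0] 9 = false)) _))
      (m _ _ (by norm_num) (tbl_eq ▸ (by decide +kernel : inSubT fd.tbl [0] 10 = false)) _))
      (m _ _ (by norm_num) (tbl_eq ▸ (by decide +kernel : inSubT fd.tbl [0] 11 = false)) _)
  · unfold Om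
    simp only [mul_assoc]

theorem Tab_split (q1 q2 q3 q4 q5 q6 : K) :
    ∃ y ∈ rG chevG2 K (Qp chevG2 [1]), Tab q1 q2 q3 q4 q5 q6 = xb q1 * y := by
  have m (r : ℕ) (hr : r < chevG2.nroots) (h1 : 6 ≤ r) (h2 : inSubT (tblOf chevG2) [1] r = false) (t : K) :
      good3.xg hr t ∈ rG chevG2 K (Qp chevG2 [1]) :=
    good3.xg_mem hr (good3.qp_of hr (by rw [hN6]; exact h1) h2) t
  refine ⟨xa q2 * xc q3 * xd q4 * xe q5 * xh q6, ?_, ?_⟩
  · exact Subgroup.mul_mem _ (Subgroup.mul_mem _ (Subgroup.mul_mem _ (Subgroup.mul_mem _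
      (m _ _ (by norm_num) (tbl_eq ▸ (by decide +kernel : inSubT fd.tbl [1] 7 = false)) _)
      (m _ _ (by norm_num) (tbl_eq ▸ (by decide +kernel : inSubT fd.tbl [1] 8 = false)) _))
      (m _ _ (by norm_num) (tbl_eq ▸ (by decide +kernel : inSubT fd.tbl [1] 9 = false)) _))
      (m _ _ (by norm_num) (tbl_eq ▸ (by decide +kernel : inSubT fd.tbl [1] 10 = false)) _))
      (m _ _ (by norm_num) (tbl_eq ▸ (by decide +kernel : inSubT fd.tbl [1] 11 = false)) _)
  · unfold Tab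
    simp only [mul_assoc]

section

variable (hf3 : ∀ t, f (f t) ^ 3 = t)
include hf3

theorem long : TwSys.LongW good3 JJ ww [0] :=
  TwSys.long_of_chk JJ_eq ww_eq (fun i => TwSys.pp_inv (sys f hf3) i) [0] (tbl_eq ▸ long_chk)

theorem nz (a : Fin chevG2.rank) : ∃ i, ∃ c ∈ (TT f).XJ (JJ i), ∃ d : K, d ≠ 0 ∧ ∃ y ∈ rG chevG2 K (Qp chevG2 [a.val]),
    c = good3.xg (good3.simple_lt a.isLt) d * y := by
  obtain ⟨a, ha⟩ := a
  have ha2 : a < 2 := ha
  refine ⟨0, WW f 1 0 0, (X_iff f hf3).mpr ⟨1, 0, 0, rfl⟩, ?_⟩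
  interval_cases a
  · obtain ⟨y, hy, e⟩ := Om_split (f (1 : K)) 1 (f 1 * 1 + f 0) (f 1 ^ 2 * 1 + f 0) 0 0
    exact ⟨f 1, by simp, y, hy, e⟩
  · rw [WW, Om_eq]
    obtain ⟨y, hy, e⟩ := Tab_split (1 : K) (f 1) (f 1 * 1 + f 0 - 1 * f 1) (f 1 ^ 2 * 1 + f 0 - 1 * f 1 ^ 2)
      (0 + 1 * f 1 ^ 3) (0 + 1 ^ 2 * f 1 ^ 3)
    exact ⟨1, one_ne_zero, y, hy, e⟩

theorem core_bot : ((chevG2.borelSubgroup K ⊓ (TT f).AA JJ).subgroupOf ((TT f).AA JJ)).normalCore = ⊥ :=
  (sys f hf3).core_eq_bot (long f hf3) (nz f hf3)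

end

end

end Cfsg.Agent.Lib.Chev.TwG2
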