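import Cfsg.Agent.Lib.Chev.Tw.G2
import Cfsg.Agent.Lib.Chev.Tw.G2w
import Cfsg.Agent.Lib.Chev.Tw.Dih

/-!
The Weyl group of ²G₂(q).
-/

set_option autoImplicit false
set_option maxRecDepth 1000000
set_option linter.unusedSimpArgs false
set_option linter.unusedVariables false
set_option linter.unusedSectionVars false

namespace Cfsg.Agent.Lib.Chev.TwG2

open Cfsg Cfsg.Lie Matrix Cfsg.Agent.Lib.BN Cfsg.Agent.Lib.Chev.Tw TabG2

variable {K : Type*} [Field K] [CharP K 3]

/-- The words for the generators. -/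
def wfL : List (List ℕ) := [[0, 1, 0, 1, 0, 1]]

/-- The positive roots of the orbits. -/
def spfL : List (List ℕ) := [[6, 7, 8, 9, 10, 11]]

theorem wt_chk : chkWT fd.tbl W chevG2.simple 1 (fun i => wfL.getD i []) (fun i => spfL.getD i []) words img nbr = true := by
  decide +kernel

theorem sp_chk (i : Fin 1) : chkSp (tblOf chevG2) (JJ i) (spfL.getD i []) = true := by
  fin_cases i
  exact tbl_eq ▸ (by decide +kernel : chkSp fd.tbl [0, 1] [6, 7, 8, 9, 10, 11] = true)

theorem wtab (f : K ≃+* K) (hf3 : ∀ t, f (f t) ^ 3 = t) : TwSys.WTab good3 JJ ww (words.map (TwSys.LF 1)) :=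
  TwSys.of_chk ww_eq sp_chk (fun i => TwSys.pp_inv (sys f hf3) i) words img nbr (tbl_eq ▸ wt_chk)

theorem N_hom [Fintype K] (f : K ≃+* K) (hf3 : ∀ t, f (f t) ^ 3 = t) :
    ∃ φ : ↥(chevG2.monomialSubgroup K ⊓ (TT f).AA JJ) →* Multiplicative (ZMod 2), Function.Surjective φ ∧
      φ.ker = (chevG2.diagonalSubgroup K ⊓ (TT f).AA JJ).subgroupOf (chevG2.monomialSubgroup K ⊓ (TT f).AA JJ) := by
  have hp : (good3.toGood2.pp (ww 0)) ^ 2 = 1 := by
    rw [pow_two]
    exact ((sys f hf3).orb 0).invol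
  have hL := wtab f hf3
  have eL : words.map (TwSys.LF 1) = [[], [0]] := rfl
  refine (sys f hf3).exists_hom hL (cycHom _ hp) ?_ ?_ ?_
  · intro x
    rw [eL]
    have hx : Multiplicative.toAdd x = 0 ∨ Multiplicative.toAdd x = 1 := by
      generalize Multiplicative.toAdd x = i
      revert i
      decide
    rcases hx with hx | hx
    · refine ⟨[], by simp, ?_⟩
      show (good3.toGood2.pp (ww 0)) ^ (Multiplicative.toAdd x).val = _
      rw [hx]
      rfl
    · refine ⟨[0], by simp, ?_⟩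
      show (good3.toGood2.pp (ww 0)) ^ (Multiplicative.toAdd x).val = _
      rw [hx]
      show (good3.toGood2.pp (ww 0)) ^ 1 = _
      rw [pow_one]
      simp [TwSys.pL]
  · intro l hl
    rw [eL] at hl
    simp only [List.mem_cons, List.not_mem_nil, or_false] at hl
    rcases hl with rfl | rfl
    · exact ⟨1, by simp [TwSys.pL]⟩
    · refine ⟨Multiplicative.ofAdd 1, ?_⟩
      show (good3.toGood2.pp (ww 0)) ^ (1 : ZMod 2).val = _
      show (good3.toGood2.pp (ww 0)) ^ 1 = _
      rw [pow_one]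
      simp [TwSys.pL]
  · rw [eL]
    simp [Nat.card_eq_fintype_card]

end Cfsg.Agent.Lib.Chev.TwG2
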