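import Cfsg.Agent.Lib.Chev.Tw.G2
import Cfsg.Agent.Lib.Chev.Tw.Tor4

/-!
The torus of ²G₂(q).
-/

set_option autoImplicit false
set_option maxRecDepth 1000000
set_option linter.unusedSimpArgs false
set_option linter.unusedVariables false
set_option linter.unusedSectionVars false

namespace Cfsg.Agent.Lib.Chev.TwG2

open Cfsg Cfsg.Lie Matrix Cfsg.Agent.Lib.BN Cfsg.Agent.Lib.Chev.Tw TabG2

/-- The word for a fixed element with integer parameters. -/
def wwI (t u v : ℤ) : List (ℕ × List Mo) :=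
  [(7, [(t, 0, 0)]), (6, [(t, 0, 0)]), (8, [(t * t + u, 0, 0)]), (9, [(t * t * t + v, 0, 0)]), (10, [(u, 0, 0)]), (11, [(v, 0, 0)])]

/-- The word for the image of a fixed element with integer parameters. -/
def wwJ (t u v : ℤ) : List (ℕ × List Mo) :=
  [(4, [(-t, 0, 0)]), (5, [(-t, 0, 0)]), (3, [(-(t * t + u), 0, 0)]), (2, [(-(t * t * t + v), 0, 0)]), (1, [(-u, 0, 0)]), (0, [(-v, 0, 0)])]

/-- The word for the involution of the torus. -/
def wFull : List (ℕ × List Mo) :=
  wwI (-1) (-1) 1 ++ wwJ 1 0 0 ++ wwI 1 1 1 ++ wwI 0 (-1) 0 ++ wwJ 0 (-1) 0 ++ wwI 0 (-1) 0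

/-- The sign of the involution on a root. -/
def dd (v : ℕ) : ℤ := if (chevG2.cartan 0 v + chevG2.cartan 1 v) % 2 = 0 then 1 else -1

theorem wFull_chk : ((allLt 2 fun k => tmEq (nfP 3 (applyW (tblOf chevG2) wFull [(k, 1, 0, 0)])) (nfP 3 [(k, 1, 0, 0)])) &&
    (allLt 12 fun v => tmEq (nfP 3 (applyW (tblOf chevG2) wFull [(2 + v, 1, 0, 0)])) (nfP 3 [(2 + v, dd v, 0, 0)]))) = true :=
  tbl_eq ▸ (by decide +kernel : ((allLt 2 fun k => tmEq (nfP 3 (applyW fd.tbl wFull [(k, 1, 0, 0)])) (nfP 3 [(k, 1, 0, 0)])) &&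
    (allLt 12 fun v => tmEq (nfP 3 (applyW fd.tbl wFull [(2 + v, 1, 0, 0)])) (nfP 3 [(2 + v, dd v, 0, 0)]))) = true)

theorem neg_cartan_chk : (allLt 2 fun i => allLt 12 fun s => decide (chevG2.cartan i (ppT W [0, 1, 0, 1, 0, 1] s) = -chevG2.cartan i s)) = true := by
  decide +kernel

theorem neg_cart (i : Fin chevG2.rank) (s : Fin chevG2.nroots) :
    chevG2.cartan i (good3.toGood2.pp (ww 0) s) = -chevG2.cartan i s := by
  have h := (allLt_iff _ _).mp neg_cartan_chk i.val i.isLt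
  have h2 := (allLt_iff _ _).mp h s.val s.isLt
  have h3 := of_decide_eq_true h2
  rw [good3.pp_val]
  exact h3

section

variable {K : Type*} [Field K] [CharP K 3] (f : K ≃+* K)

/-- The parameters of the torus. -/
noncomputable def gc : Kˣ →* (Fin chevG2.rank → Kˣ) where
  toFun u i := if i.val = 0 then u else (Units.map (f : K →* K) u) ^ 3
  map_one' := by
    funext i
    simp
  map_mul' a b := by
    funext i
    by_cases h : i.val = 0 <;> simp [h, mul_pow]

theorem rho_bij : Function.Bijective (TT f).ρi := by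
  apply Finite.injective_iff_bijective.mp
  rintro ⟨a, ha⟩ ⟨b, hb⟩ h
  have h' := congrArg Fin.val h
  have ha2 : a < 2 := ha
  have hb2 : b < 2 := hb
  change excI.getD a 0 = excI.getD b 0 at h'
  apply Fin.ext
  interval_cases a <;> interval_cases b <;> simp_all [excI]

theorem phi0 (t : K) : (TT f).φ (chevG2.simple 0) t = f t ^ 3 := by
  show excφ 3 f (exc.lam (chevG2.simple 0)) t = _
  have : chevG2.simple 0 = 7 := by decide
  rw [this, lam_7, excφ_p]

theorem phi1 (t : K) : (TT f).φ (chevG2.simple 1) t = f t := by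
  show excφ 3 f (exc.lam (chevG2.simple 1)) t = _
  have : chevG2.simple 1 = 6 := by decide
  rw [this, lam_6, excφ_one]

/-- The action of the twisting automorphism on the torus. -/
theorem s_tor {c c' : Fin chevG2.rank → Kˣ}
    (h0 : ((c' ⟨1, by decide⟩ : Kˣ) : K) = f (c ⟨0, by decide⟩) ^ 3) (h1 : ((c' ⟨0, by decide⟩ : Kˣ) : K) = f (c ⟨1, by decide⟩)) :
    (TT f).s (good3.toGood2.torusHom c) = good3.toGood2.torusHom c' := by
  apply (TT f).s_torus (rho_bij f)
  rintro ⟨i, hi⟩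
  have hi2 : i < 2 := hi
  interval_cases i
  · exact h0.trans (phi0 f _).symm
  · exact h1.trans (phi1 f _).symm

theorem torus_inj : Function.Injective (good3.toGood2.torusHom (F := K)) :=
  good3.toGood2.torus_inj (matOf 2 [[2, 3], [1, 2]]) (by decide +kernel)

variable (hf3 : ∀ t, f (f t) ^ 3 = t)
include hf3

theorem s_gc (u : Kˣ) : (TT f).s (good3.toGood2.torusHom (gc f u)) = good3.toGood2.torusHom (gc f u) := by
  apply s_tor f
  · simp [gc]
  · simp [gc]
    rw [hf3]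

theorem fix_form {c : Fin chevG2.rank → Kˣ} (h : (TT f).s (good3.toGood2.torusHom c) = good3.toGood2.torusHom c) :
    c = gc f (c ⟨0, by decide⟩) := by
  have h1 : (TT f).s (good3.toGood2.torusHom c) =
      good3.toGood2.torusHom (fun i => if i.val = 0 then Units.map (f : K →* K) (c ⟨1, by decide⟩) else (Units.map (f : K →* K) (c ⟨0, by decide⟩)) ^ 3) := by
    apply s_tor f
    · simp
    · simp
  rw [h1] at h
  have h2 := torus_inj h
  funext ⟨i, hi⟩
  have hi2 : i < 2 := hi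
  interval_cases i
  · simp [gc]
  · have h3 := congrFun h2 ⟨1, by decide⟩
    simp only [one_ne_zero, if_false] at h3
    simp only [gc]
    simpa using h3.symm

theorem sq_mem (v : Kˣ) : good3.toGood2.torusHom (gc f v) * good3.toGood2.torusHom (gc f v) ∈ (TT f).AA JJ := by
  have S := sys f hf3
  apply S.sq_mem_of_inv (S.nJ_A 0) (good3.toGood2.torusHom_mem _) (s_gc f hf3 v)
  apply good3.toGood2.conj_torus_inv (S.nJ_N0 0) (S.nJ_mono 0)
  intro i
  right
  intro s
  exact neg_cart i s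

omit hf3 in
theorem WW_int (t u v : ℤ) : ((WW f (t : K) u v : GL chevG2.Idx K) : Matrix chevG2.Idx chevG2.Idx K) =
    chevG2.wordMat K (evW 1 1 (wwI t u v)) := by
  have e : (t : K) ^ 2 * t = t * (t * t) := by ring
  simp [WW, Om, evW, wwI, polyVal, moVal, ChevalleyDatum.wordMat, mul_assoc, e]

omit hf3 in
theorem iot_WW_int (t u v : ℤ) : ((TwAut.iot good5.inv K (WW f (t : K) u v) : GL chevG2.Idx K) : Matrix chevG2.Idx chevG2.Idx K) =
    chevG2.wordMat K (evW 1 1 (wwJ t u v)) := by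
  have i1 := fun (r : ℕ) (hr : r < chevG2.nroots) (t : K) => TwAut.iot_x (F := K) invD good3 hr t
  simp only [WW, Om, TwAut.iot_mul, i1]
  have n4 : chevG2.neg 7 = 4 := by decide
  have n5 : chevG2.neg 6 = 5 := by decide
  have n3 : chevG2.neg 8 = 3 := by decide
  have n2 : chevG2.neg 9 = 2 := by decide
  have n1 : chevG2.neg 10 = 1 := by decide
  have n0 : chevG2.neg 11 = 0 := by decide
  have e : (t : K) ^ 2 * t = t * (t * t) := by ring
  simp [evW, wwJ, polyVal, moVal, ChevalleyDatum.wordMat, mul_assoc, n0, n1, n2, n3, n4, n5, e]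

/-- The involution as a product. -/
noncomputable def gm : GL chevG2.Idx K :=
  WW f ((-1 : ℤ) : K) ((-1 : ℤ) : K) ((1 : ℤ) : K) * TwAut.iot good5.inv K (WW f ((1 : ℤ) : K) ((0 : ℤ) : K) ((0 : ℤ) : K)) *
    WW f ((1 : ℤ) : K) ((1 : ℤ) : K) ((1 : ℤ) : K) * WW f ((0 : ℤ) : K) ((-1 : ℤ) : K) ((0 : ℤ) : K) *
    TwAut.iot good5.inv K (WW f ((0 : ℤ) : K) ((-1 : ℤ) : K) ((0 : ℤ) : K)) * WW f ((0 : ℤ) : K) ((-1 : ℤ) : K) ((0 : ℤ) : K)

omit hf3 in
theorem gm_val : ((gm f : GL chevG2.Idx K) : Matrix chevG2.Idx chevG2.Idx K) = chevG2.wordMat K (evW 1 1 wFull) := by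
  simp only [gm, Units.val_mul, WW_int, iot_WW_int, wFull, evW, List.map_append, wordMat_append]

theorem gm_mem : gm f ∈ (TT f).AA JJ := by
  have hX : ∀ t u v : K, WW f t u v ∈ (TT f).AA JJ := fun t u v =>
    (TT f).X_le_AA JJ 0 ((X_iff f hf3).mpr ⟨t, u, v, rfl⟩)
  have hY : ∀ t u v : K, TwAut.iot good5.inv K (WW f t u v) ∈ (TT f).AA JJ := fun t u v =>
    (TT f).Y_le_AA JJ 0 ((TT f).iot_X invD ((X_iff f hf3).mpr ⟨t, u, v, rfl⟩))
  unfold gm
  exact Subgroup.mul_mem _ (Subgroup.mul_mem _ (Subgroup.mul_mem _ (Subgroup.mul_mem _ (Subgroup.mul_mem _ (hX _ _ _) (hY _ _ _))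
    (hX _ _ _)) (hX _ _ _)) (hY _ _ _)) (hX _ _ _)

omit hf3 in
theorem gc_neg_one (i : Fin chevG2.rank) : gc f (-1) i = -1 := by
  have h1 : Units.map (f : K →* K) (-1) = -1 := Units.ext (by simp)
  by_cases h : i.val = 0
  · simp [gc, h]
  · simp only [gc, MonoidHom.mk'_apply, h, if_false]
    show (if i.val = 0 then (-1 : Kˣ) else (Units.map (f : K →* K) (-1)) ^ 3) = -1
    rw [if_neg h, h1]
    simp [Odd.neg_one_pow, pow_succ]

omit hf3 in
theorem chi_neg_one (v : ℕ) : chiL chevG2 (List.range chevG2.rank) (extU (gc f (-1))) v = ((dd v : ℤ) : K) := by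
  rw [chiL_extU_simple]
  change ∏ i : Fin 2, ((gc f (-1) i ^ chevG2.cartan i v : Kˣ) : K) = _
  rw [Fin.prod_univ_two]
  change ((gc f (-1) ⟨0, by decide⟩ ^ chevG2.cartan 0 v : Kˣ) : K) * ((gc f (-1) ⟨1, by decide⟩ ^ chevG2.cartan 1 v : Kˣ) : K) = _
  rw [gc_neg_one, gc_neg_one]
  simp only [Units.val_zpow_eq_zpow_val, Units.val_neg, Units.val_one]
  rw [← zpow_add₀ (neg_ne_zero.mpr one_ne_zero)]
  show (-1 : K) ^ (chevG2.cartan 0 v + chevG2.cartan 1 v) = _
  unfold dd
  split_ifs with h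
  · rw [Even.neg_one_zpow (Int.even_iff.mpr h)]
    simp
  · have h2 : Odd (chevG2.cartan 0 v + chevG2.cartan 1 v) := by
      rw [← Int.not_even_iff_odd, Int.even_iff]
      exact h
    rw [Odd.neg_one_zpow h2]
    simp

omit hf3 in
theorem gm_eq : gm f = good3.toGood2.torusHom (gc f (-1)) := by
  have hrow : ∀ a ∈ wFull, RowOK chevG2 a.1 := by
    intro a ha
    apply good3.row
    have : ∀ a ∈ wFull, a.1 < chevG2.nroots := by decide +kernel
    exact this a ha
  have hchk := wFull_chk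
  simp only [Bool.and_eq_true] at hchk
  apply Units.ext
  rw [gm_val, good3.toGood2.torusHom_val]
  apply matrix_ext_vE
  intro k hk
  have hk2 : k < 14 := hk
  by_cases h : k < 2
  · have h1 := (tmEq_iff _ _).mp ((allLt_iff _ _).mp hchk.1 k h)
    rw [word_colP chevG2 3 wFull hrow k _ h1, V_single, dgM_col_h _ h]
  · obtain ⟨v, rfl⟩ : ∃ v, k = 2 + v := ⟨k - 2, by omega⟩
    have hv : v < 12 := by omega
    have h1 := (tmEq_iff _ _).mp ((allLt_iff _ _).mp hchk.2 v hv)
    rw [word_colP chevG2 3 wFull hrow _ _ h1]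
    have e2 : (2 + v) = chevG2.rank + v := rfl
    rw [e2, dgM_col_e _ hv, chi_neg_one]
    simp [V, tmVal, moVal]

theorem neg_mem : good3.toGood2.torusHom (gc f (-1)) ∈ (TT f).AA JJ := by
  rw [← gm_eq]
  exact gm_mem f hf3

/-- `H¹` is the image of `K^×`. -/
theorem H1_eq (hsq : ∀ u : Kˣ, (∃ v, u = v * v) ∨ (∃ v, u = -1 * (v * v))) :
    chevG2.diagonalSubgroup K ⊓ (TT f).AA JJ = (good3.toGood2.torusHom.comp (gc f)).range := by
  apply le_antisymm
  · rintro g ⟨h1, h2⟩
    rw [← good3.toGood2.torusHom_range] at h1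
    obtain ⟨c, rfl⟩ := h1
    have h3 := fix_form f hf3 ((sys f hf3).A_fix h2)
    rw [h3]
    exact ⟨_, rfl⟩
  · rintro _ ⟨u, rfl⟩
    refine ⟨good3.toGood2.torusHom_mem _, ?_⟩
    rcases hsq u with ⟨v, rfl⟩ | ⟨v, rfl⟩
    · simp only [MonoidHom.comp_apply, map_mul]
      exact sq_mem f hf3 v
    · simp only [MonoidHom.comp_apply, map_mul]
      exact Subgroup.mul_mem _ (neg_mem f hf3) (sq_mem f hf3 v)

omit hf3 in
theorem gc_inj : Function.Injective (good3.toGood2.torusHom.comp (gc f)) := by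
  intro a b h
  have h1 := torus_inj h
  have h2 := congrFun h1 ⟨0, by decide⟩
  simpa [gc] using h2

theorem card_H1 [Finite K] (hsq : ∀ u : Kˣ, (∃ v, u = v * v) ∨ (∃ v, u = -1 * (v * v))) :
    Nat.card ↥(chevG2.diagonalSubgroup K ⊓ (TT f).AA JJ) = Nat.card Kˣ := by
  rw [H1_eq f hf3 hsq]
  exact (Nat.card_congr (MonoidHom.ofInjective (gc_inj f)).toEquiv).symm

end

/-- Squares in a field with an odd power of three elements. -/
theorem sq_or_neg {K : Type*} [Field K] [Fintype K] {m : ℕ} (hK : Fintype.card K = 3 ^ (2 * m + 1)) (h3 : ringChar K ≠ 2) (u : Kˣ) :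
    (∃ v, u = v * v) ∨ (∃ v, u = -1 * (v * v)) := by
  have hmod : Fintype.card K % 4 = 3 := by
    rw [hK, pow_succ, pow_mul]
    norm_num [Nat.mul_mod, Nat.pow_mod]
  have hn : ¬ IsSquare (-1 : K) := by
    rw [FiniteField.isSquare_neg_one_iff]
    simpa using hmod
  by_cases hu : IsSquare (u : K)
  · left
    obtain ⟨w, hw⟩ := hu
    have hw0 : w ≠ 0 := by
      rintro rfl
      exact u.ne_zero (by simpa using hw)
    exact ⟨Units.mk0 w hw0, Units.ext (by simpa using hw)⟩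
  · right
    have hne : (-1 : K) ≠ 0 := neg_ne_zero.mpr one_ne_zero
    have d1 := FiniteField.pow_dichotomy h3 u.ne_zero
    have d2 := FiniteField.pow_dichotomy h3 hne
    have i1 := FiniteField.isSquare_iff h3 u.ne_zero
    have i2 := FiniteField.isSquare_iff h3 hne
    have e1 : (u : K) ^ (Fintype.card K / 2) = -1 := by
      rcases d1 with h | h
      · exact absurd (i1.mpr h) hu
      · exact h
    have e2 : (-1 : K) ^ (Fintype.card K / 2) = -1 := by
      rcases d2 with h | h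
      · exact absurd (i2.mpr h) hn
      · exact h
    have h5 : IsSquare (-1 * (u : K)) := by
      rw [FiniteField.isSquare_iff h3 (mul_ne_zero hne u.ne_zero), mul_pow, e1, e2]
      ring
    obtain ⟨w, hw⟩ := h5
    have hw0 : w ≠ 0 := by
      rintro rfl
      have : -1 * (u : K) = 0 := by simpa using hw
      exact mul_ne_zero hne u.ne_zero this
    refine ⟨Units.mk0 w hw0, Units.ext ?_⟩
    have : (u : K) = -1 * (-1 * (u : K)) := by ring
    rw [this, hw]
    simp

end Cfsg.Agent.Lib.Chev.TwG2
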