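import Cfsg.Agent.Lib.Chev.Tw.G2c
import Cfsg.Agent.Lib.Chev.Tw.G2d

/-!
The order of ²G₂(q).
-/

set_option autoImplicit false
set_option maxRecDepth 1000000
set_option linter.unusedSimpArgs false
set_option linter.unusedVariables false
set_option linter.unusedSectionVars false

namespace Cfsg.Agent.Lib.Chev.TwG2

open Cfsg Cfsg.Lie Matrix Cfsg.Agent.Lib.BN Cfsg.Agent.Lib.Chev.Tw TabG2

variable {K : Type*} [Field K] [CharP K 3] [Fintype K] (f : K ≃+* K) (hf3 : ∀ t, f (f t) ^ 3 = t)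
include hf3

theorem card_X : Nat.card ↥((TT f).XJ [0, 1]) = Fintype.card K ^ 3 := by
  classical
  have hb : Function.Bijective (fun x : K × K × K =>
      (⟨WW f x.1 x.2.1 x.2.2, (X_iff f hf3).mpr ⟨_, _, _, rfl⟩⟩ : ↥((TT f).XJ [0, 1]))) := by
    constructor
    · rintro ⟨t, u, v⟩ ⟨t', u', v'⟩ h
      obtain ⟨e1, e2, e3⟩ := WW_inj f (congrArg Subtype.val h)
      subst e1 e2 e3
      rfl
    · rintro ⟨g, hg⟩
      obtain ⟨t, u, v, rfl⟩ := (X_iff f hf3).mp hg
      exact ⟨(t, u, v), rfl⟩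
  rw [← Nat.card_congr (Equiv.ofBijective _ hb)]
  simp [Nat.card_eq_fintype_card, pow_succ]
  ring

theorem card_H (hc : ringChar K ≠ 2) {m : ℕ} (hK : Fintype.card K = 3 ^ (2 * m + 1)) :
    Nat.card ↥(chevG2.diagonalSubgroup K ⊓ (TT f).AA JJ) = Fintype.card K - 1 := by
  rw [card_H1 f hf3 (sq_or_neg hK hc), Nat.card_units, Nat.card_eq_fintype_card]

theorem card_G {m : ℕ} (hK : Fintype.card K = 3 ^ (2 * m + 1)) (hc : ringChar K ≠ 2) :
    Nat.card ↥((TT f).AA JJ) = (1 + Fintype.card K ^ 3) * (Fintype.card K ^ 3 * (Fintype.card K - 1)) := by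
  have S := sys f hf3
  rw [(S.card_AA (wtab f hf3)), S.card_B1 (long f hf3), S.card_U1 (long f hf3), card_H f hf3 hc hK]
  have e : words.map (TwSys.LF 1) = [[], [0]] := by decide
  rw [e]
  have e2 : ∀ i : Fin 1, Nat.card ↥((TT f).XJ (JJ i)) = Fintype.card K ^ 3 := by
    intro i
    fin_cases i
    exact card_X f hf3
  simp [e2]

end Cfsg.Agent.Lib.Chev.TwG2
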