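import Cfsg.Agent.Lib.Chev.Tw.Tor5
import Cfsg.Agent.Lib.Chev.Nilp
import Cfsg.Agent.Lib.BN.Simple

/-!
The derived subgroup of a twisted group; the criterion for simplicity.
-/

set_option autoImplicit false
set_option linter.unusedSimpArgs false
set_option linter.unusedVariables false
set_option linter.unusedSectionVars false

namespace Cfsg.Agent.Lib.Chev

open Cfsg Cfsg.Lie Matrix Cfsg.Agent.Lib.BN Cfsg.Agent.Lib.Chev.Tw

variable {D : ChevalleyDatum} {F : Type*} [Field F]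

theorem commElt_mem {Γ : Type*} [Group Γ] (a b : Γ) : a * b * a⁻¹ * b⁻¹ ∈ commutator Γ := by
  rw [commutator_def, ← commutatorElement_def]
  exact Subgroup.commutator_mem_commutator (Subgroup.mem_top _) (Subgroup.mem_top _)

namespace Good2

variable (G : Good2 D)

theorem torus_conj_x (c : Fin D.rank → Fˣ) {r : ℕ} (hr : r < D.nroots) (t : F) :
    G.torusHom c * G.xg hr t * (G.torusHom c)⁻¹ = G.xg hr ((∏ i : Fin D.rank, ((c i ^ D.cartan i r : Fˣ) : F)) * t) := by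
  rw [mul_inv_eq_iff_eq_mul]
  apply Units.ext
  simp only [Units.val_mul, Good0.xg_val]
  rw [G.torusHom_val]
  have := G.toGood0.dgM_mul_x (G.chiL_isChi _ (fun i hi => List.mem_range.mp hi) (extU c) (fun i _ => extU_ne c i)) hr t
  rw [chiL_extU_simple] at this
  exact this

theorem nw_conj_sign (l : List (Fin D.rank)) (r : Fin D.nroots) :
    ∃ σ : F, (σ = 1 ∨ σ = -1) ∧ ∀ t : F, G.nw l * G.xg r.isLt t * (G.nw l)⁻¹ = G.xg (G.pp l r).isLt (σ * t) := by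
  induction l generalizing r with
  | nil =>
    refine ⟨1, Or.inl rfl, fun t => ?_⟩
    simp
  | cons a l ih =>
    obtain ⟨σ, h1, h2⟩ := ih r
    have hs := G.nG_conj_x (F := F) a (G.pp l r).isLt
    have hS : (((G.S a (G.pp l r).val : ℤ) : F)) = 1 ∨ ((G.S a (G.pp l r).val : ℤ) : F) = -1 := by
      rcases G.S_cases a.isLt (G.pp l r).isLt with h | h
      · left
        rw [h]
        simp
      · right
        rw [h]
        simp
    refine ⟨((G.S a (G.pp l r).val : ℤ) : F) * σ, ?_, fun t => ?_⟩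
    · rcases hS with h | h <;> rcases h1 with h' | h' <;> rw [h, h'] <;> simp
    · rw [G.nw_cons, G.pp_cons]
      have e : G.nG a * G.nw l * G.xg r.isLt t * (G.nG a * G.nw l)⁻¹ =
          G.nG a * (G.nw l * G.xg r.isLt t * (G.nw l)⁻¹) * (G.nG a)⁻¹ := by group
      rw [e, h2, hs, mul_assoc]
      rfl

end Good2

namespace TwAut

variable {G : Good3 D} (T : TwAut G F) {ι : Type*} (J : ι → List ℕ)

/-- The derived subgroup of the twisted group, inside the ambient group. -/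
def DD : Subgroup (GL D.Idx F) := (commutator ↥(T.AA J)).map (T.AA J).subtype

theorem DD_le : T.DD J ≤ T.AA J := by
  rintro _ ⟨x, -, rfl⟩
  exact x.2

theorem comm_mem_DD {a b : GL D.Idx F} (ha : a ∈ T.AA J) (hb : b ∈ T.AA J) : a * b * a⁻¹ * b⁻¹ ∈ T.DD J := by
  exact ⟨_, commElt_mem (⟨a, ha⟩ : ↥(T.AA J)) ⟨b, hb⟩, rfl⟩

theorem conj_mem_DD {g x : GL D.Idx F} (hg : g ∈ T.AA J) (hx : x ∈ T.DD J) : g * x * g⁻¹ ∈ T.DD J := by
  obtain ⟨y, hy, rfl⟩ := hx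
  have hN : (commutator ↥(T.AA J)).Normal := inferInstance
  exact ⟨_, hN.conj_mem y hy ⟨g, hg⟩, rfl⟩

/-- The torus forces elements into the derived subgroup. -/
theorem scale_mem {ξ : F → GL D.Idx F} (hA : ∀ t, ξ t ∈ T.AA J) (hadd : ∀ a b, (ξ (a + b))⁻¹ * (ξ a * ξ b) ∈ T.DD J)
    {h : GL D.Idx F} (hh : h ∈ T.AA J) {χ : F} (hχ : χ ≠ 1) (hc : ∀ t, h * ξ t * h⁻¹ = ξ (χ * t)) (t : F) : ξ t ∈ T.DD J := by
  have hne : χ - 1 ≠ 0 := sub_ne_zero.mpr hχ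
  set t₀ := t / (χ - 1) with ht₀
  have e1 : χ * t₀ = t + t₀ := by
    rw [ht₀]
    field_simp
    ring
  have d : ξ (t + t₀) * (ξ t₀)⁻¹ ∈ T.DD J := by
    have := T.comm_mem_DD J hh (hA t₀)
    rwa [hc, e1] at this
  have e2 := hadd t t₀
  have e3 := T.conj_mem_DD J (hA (t + t₀)) e2
  have e4 : ξ t = (ξ (t + t₀) * ((ξ (t + t₀))⁻¹ * (ξ t * ξ t₀)) * (ξ (t + t₀))⁻¹) * (ξ (t + t₀) * (ξ t₀)⁻¹) := by group
  rw [e4]
  exact Subgroup.mul_mem _ e3 d

/-- The torus forces elements into the derived subgroup: additive case. -/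
theorem scale_mem' {ξ : F → GL D.Idx F} (hA : ∀ t, ξ t ∈ T.AA J) (hadd : ∀ a b, ξ a * ξ b = ξ (a + b))
    {h : GL D.Idx F} (hh : h ∈ T.AA J) {χ : F} (hχ : χ ≠ 1) (hc : ∀ t, h * ξ t * h⁻¹ = ξ (χ * t)) (t : F) : ξ t ∈ T.DD J := by
  refine T.scale_mem J hA (fun a b => ?_) hh hχ hc t
  rw [hadd, inv_mul_cancel]
  exact Subgroup.one_mem _

end TwAut

namespace TwSys

variable {G : Good3 D} {T : TwAut G F} {ι : Type*} {J : ι → List ℕ} {w : ι → List (Fin D.rank)} (S : TwSys T J w)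
include S

theorem Sm_Sp (i : ι) (r : Fin D.nroots) (h : Sm D (J i) r) : Sp D (J i) (G.toGood2.pp (w i) r) := by
  have h1 : Sp D (J i) (G.toGood2.nf r) := by
    refine ⟨(G.toGood2.pos_iff (Fin.isLt _)).mpr ((G.toGood2.nf_pos_iff _).mpr ?_), G.neg_sub h.2⟩
    have := (G.toGood2.neg_iff (Fin.isLt _)).mp h.1
    omega
  have h2 := (S.orb i).S_neg _ h1
  rw [G.toGood2.pp_nf] at h2
  refine ⟨(G.toGood2.pos_iff (Fin.isLt _)).mpr ?_, ?_⟩
  · have h3 := (G.toGood2.neg_iff (Fin.isLt _)).mp h2.1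
    by_contra hcon
    have h4 := (G.toGood2.nf_pos_iff (G.toGood2.pp (w i) r)).mpr hcon
    omega
  · have h5 := G.neg_sub h2.2
    have e : D.neg ((G.toGood2.nf (G.toGood2.pp (w i) r)) : ℕ) = (G.toGood2.pp (w i) r : ℕ) := by
      have := G.toGood2.nf_nf (G.toGood2.pp (w i) r)
      exact congrArg Fin.val this
    rwa [e] at h5

theorem Y_conj (i : ι) {y : GL D.Idx F} (hy : y ∈ T.YJ (J i)) : S.nJ i * y * (S.nJ i)⁻¹ ∈ T.XJ (J i) := by
  refine ⟨G.toGood2.N0_conj_rG (fun r h => h.1.1) (S.nJ_N0 i) (S.nJ_mono i) (fun r h => S.Sm_Sp i r h) hy.1, ?_⟩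
  have hn := S.nJ_A i
  exact Subgroup.mul_mem _ (Subgroup.mul_mem _ (T.AA_le_Fx J hn) hy.2) (Subgroup.inv_mem _ (T.AA_le_Fx J hn))

theorem Y_le_DD (h : ∀ i, T.XJ (J i) ≤ T.DD J) (i : ι) : T.YJ (J i) ≤ T.DD J := by
  intro y hy
  have h1 := T.conj_mem_DD J (Subgroup.inv_mem _ (S.nJ_A i)) (h i (S.Y_conj i hy))
  have e : (S.nJ i)⁻¹ * (S.nJ i * y * (S.nJ i)⁻¹) * ((S.nJ i)⁻¹)⁻¹ = y := by group
  rwa [e] at h1

/-- The criterion for perfectness. -/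
theorem perfect_of_X (h : ∀ i, T.XJ (J i) ≤ T.DD J) : commutator ↥(T.AA J) = ⊤ := by
  have hle : T.AA J ≤ T.DD J := by
    rw [TwAut.AA, Subgroup.closure_le]
    intro x hx
    obtain ⟨i, hx⟩ := Set.mem_iUnion.mp hx
    rcases hx with hx | hx
    · exact h i hx
    · exact S.Y_le_DD h i hx
  rw [eq_top_iff]
  rintro ⟨g, hg⟩ -
  obtain ⟨x, hx, e⟩ := hle hg
  have e' : x = ⟨g, hg⟩ := Subtype.ext e
  rwa [← e']

omit S in
theorem solvable_B1 : Group.IsSolvable ↥((D.borelSubgroup F ⊓ T.AA J).subgroupOf (T.AA J)) := by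
  have h1 := G.toGood2.B_solvable (F := F)
  let e : ↥((D.borelSubgroup F ⊓ T.AA J).subgroupOf (T.AA J)) →* ↥(D.borelSubgroup F) :=
    { toFun := fun x => ⟨((x : ↥(T.AA J)) : GL D.Idx F), x.2.1⟩
      map_one' := rfl
      map_mul' := fun _ _ => rfl }
  have he : Function.Injective e := by
    rintro ⟨⟨a, ha⟩, ha'⟩ ⟨⟨b, hb⟩, hb'⟩ hab
    have : a = b := congrArg (fun x : ↥(D.borelSubgroup F) => (x : GL D.Idx F)) hab
    subst this
    rfl
  exact Group.isSolvable_of_isSolvable_injective (f := e) he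

/-- The criterion for irreducibility. -/
theorem irreducible_of_conn
    (hconn : ∀ P : ι → Prop, (∃ i, P i) → (∃ i, ¬ P i) →
      ∃ i j, P i ∧ ¬ P j ∧ G.toGood2.pp (w i) * G.toGood2.pp (w j) * G.toGood2.pp (w i) * G.toGood2.pp (w j) ≠ 1) :
    (S.input.bnPair).Irreducible := by
  intro A hA hne hne'
  have hS : ∀ i, (⟨S.nJ i, S.nJ_A i⟩ : ↥(T.AA J)) ∈ (S.input.bnPair).S := fun i => ⟨i, rfl⟩
  have hform : ∀ g ∈ (S.input.bnPair).S, ∃ i, g = (⟨S.nJ i, S.nJ_A i⟩ : ↥(T.AA J)) := by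
    rintro g ⟨i, e⟩
    exact ⟨i, Subtype.ext e⟩
  obtain ⟨g, hg⟩ := hne
  obtain ⟨g', hg'⟩ := hne'
  obtain ⟨i0, rfl⟩ := hform g (hA hg)
  obtain ⟨j0, rfl⟩ := hform g' hg'.1
  obtain ⟨i, j, h1, h2, h3⟩ := hconn (fun i => (⟨S.nJ i, S.nJ_A i⟩ : ↥(T.AA J)) ∈ A) ⟨i0, hg⟩ ⟨j0, hg'.2⟩
  refine ⟨_, h1, _, ⟨hS j, h2⟩, ?_⟩
  intro hb
  have hb' : (S.nJ i * S.nJ j * (S.nJ i)⁻¹ * (S.nJ j)⁻¹ : GL D.Idx F) ∈ D.borelSubgroup F ⊓ T.AA J := hb
  have hm : (S.nJ i * S.nJ j * (S.nJ i)⁻¹ * (S.nJ j)⁻¹ : GL D.Idx F) ∈ G.toGood2.N0 F :=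
    Subgroup.mul_mem _ (Subgroup.mul_mem _ (Subgroup.mul_mem _ (S.nJ_N0 i) (S.nJ_N0 j))
      (Subgroup.inv_mem _ (S.nJ_N0 i))) (Subgroup.inv_mem _ (S.nJ_N0 j))
  have h4 : (S.nJ i * S.nJ j * (S.nJ i)⁻¹ * (S.nJ j)⁻¹ : GL D.Idx F) ∈ D.borelSubgroup F ⊓ G.toGood2.N0 F := ⟨hb'.1, hm⟩
  rw [G.toGood2.B_inf_N0] at h4
  have h5 := G.toGood2.H_isMono h4
  have hinv : ∀ k, IsMono D (G.toGood2.pp (w k)) (((S.nJ k : GL D.Idx F)⁻¹ : GL D.Idx F) : Matrix D.Idx D.Idx F) := by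
    intro k
    have h6 := G.toGood2.N0_inv_isMono (S.nJ_N0 k) (S.nJ_mono k)
    have e1 : (G.toGood2.pp (w k))⁻¹ = G.toGood2.pp (w k) := inv_eq_of_mul_eq_one_left (S.orb k).invol
    rwa [e1] at h6
  have h7 : IsMono D (G.toGood2.pp (w i) * G.toGood2.pp (w j) * G.toGood2.pp (w i) * G.toGood2.pp (w j))
      ((S.nJ i * S.nJ j * (S.nJ i)⁻¹ * (S.nJ j)⁻¹ : GL D.Idx F) : Matrix D.Idx D.Idx F) :=
    (((S.nJ_mono i).mul (S.nJ_mono j)).mul (hinv i)).mul (hinv j)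
  exact h3 (h5.uniq h7).symm

/-- The criterion for simplicity. -/
theorem simple_of_perfect' (hperf : commutator ↥(T.AA J) = ⊤)
    (hcore : ((D.borelSubgroup F ⊓ T.AA J).subgroupOf (T.AA J)).normalCore = ⊥)
    (hconn : ∀ P : ι → Prop, (∃ i, P i) → (∃ i, ¬ P i) →
      ∃ i j, P i ∧ ¬ P j ∧ G.toGood2.pp (w i) * G.toGood2.pp (w j) * G.toGood2.pp (w i) * G.toGood2.pp (w j) ≠ 1)
    {i₀ : ι} {x : GL D.Idx F} (hx : x ∈ T.XJ (J i₀)) (hne : x ≠ 1) :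
    IsSimpleGroup ↥(T.AA J) ∧ ¬ IsMulCommutative ↥(T.AA J) := by
  have hnt : Nontrivial ↥(T.AA J) :=
    ⟨⟨⟨x, T.X_le_AA J i₀ hx⟩, 1, fun h => hne (congrArg Subtype.val h)⟩⟩
  refine ⟨?_, ?_⟩
  · exact isSimpleGroup_of_bnPair (P := S.input.bnPair) (S.irreducible_of_conn hconn) (solvable_B1) hperf hcore
  · intro hc
    have h1 : commutator ↥(T.AA J) = ⊥ := by
      rw [commutator_def, Subgroup.commutator_eq_bot_iff_le_centralizer]
      intro x _ y _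
      exact mul_comm' y x
    rw [hperf] at h1
    exact top_ne_bot h1

end TwSys

namespace TwAut

variable {G : Good3 D} (T : TwAut G F) {ι : Type*} (J : ι → List ℕ)

theorem AA_transport {l : List (Fin D.rank)} (hn : G.toGood2.nw l ∈ T.AA J) {r : Fin D.nroots} {Fq : Set F}
    (hQ : ∀ t ∈ Fq, -t ∈ Fq) (h : ∀ t ∈ Fq, G.xg r.isLt t ∈ T.AA J) (t : F) (ht : t ∈ Fq) :
    G.xg (G.toGood2.pp l r).isLt t ∈ T.AA J := by
  obtain ⟨σ, h1, h2⟩ := G.toGood2.nw_conj_sign (F := F) l r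
  have hσ : σ * (σ * t) = t := by
    rcases h1 with rfl | rfl <;> ring
  have hm : σ * t ∈ Fq := by
    rcases h1 with rfl | rfl
    · simpa using ht
    · simpa using hQ t ht
  have := h2 (σ * t)
  rw [hσ] at this
  rw [← this]
  exact Subgroup.mul_mem _ (Subgroup.mul_mem _ hn (h _ hm)) (Subgroup.inv_mem _ hn)

theorem DD_transport {l : List (Fin D.rank)} (hn : G.toGood2.nw l ∈ T.AA J) {r : Fin D.nroots} {Fq : Set F}
    (hQ : ∀ t ∈ Fq, -t ∈ Fq) (h : ∀ t ∈ Fq, G.xg r.isLt t ∈ T.DD J) (t : F) (ht : t ∈ Fq) :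
    G.xg (G.toGood2.pp l r).isLt t ∈ T.DD J := by
  obtain ⟨σ, h1, h2⟩ := G.toGood2.nw_conj_sign (F := F) l r
  have hσ : σ * (σ * t) = t := by
    rcases h1 with rfl | rfl <;> ring
  have hm : σ * t ∈ Fq := by
    rcases h1 with rfl | rfl
    · simpa using ht
    · simpa using hQ t ht
  have := h2 (σ * t)
  rw [hσ] at this
  rw [← this]
  exact T.conj_mem_DD J hn (h _ hm)

/-- A commutator of two root elements with a single term. -/
theorem DD_comm {a b r : ℕ} (ha : a < D.nroots) (hb : b < D.nroots) (h1 : b ≠ a) (h2 : b ≠ D.neg a) {c : ℤ}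
    (hc : c = 1 ∨ c = -1) (h : D.commTerms a b = [(r, c, 1, 1)]) (hr : r < D.nroots) {Fq : Set F}
    (hQ : ∀ t ∈ Fq, -t ∈ Fq) (hAa : G.xg ha (1 : F) ∈ T.AA J) (hAb : ∀ t ∈ Fq, G.xg hb t ∈ T.AA J) (v : F) (hv : v ∈ Fq) :
    G.xg hr v ∈ T.DD J := by
  have hP := G.toGood2.Phi_all (F := F) ha hb h1 h2 1 (-((c : ℤ) : F) * v)
  have hcc : ((c : ℤ) : F) * ((c : ℤ) : F) = 1 := by
    rcases hc with rfl | rfl <;> simp
  have e0 : D.wordMat F (D.commWord F a b 1 (-((c : ℤ) : F) * v)) = D.x F r v := by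
    simp only [ChevalleyDatum.wordMat, ChevalleyDatum.commWord, h, List.map_cons, List.map_nil, List.prod_cons,
      List.prod_nil, mul_one]
    congr 1
    simp only [pow_one]
    linear_combination (v) * hcc
  rw [e0] at hP
  have hu : -((c : ℤ) : F) * v ∈ Fq := by
    rcases hc with rfl | rfl
    · simpa using hQ v hv
    · simpa using hv
  set u : F := -((c : ℤ) : F) * v with hu'
  have e1 : G.xg hb u * G.xg ha 1 = G.xg ha 1 * G.xg hb u * G.xg hr v := Units.ext hP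
  have e2 : G.xg hr v = (G.xg hb u)⁻¹ * (G.xg ha 1)⁻¹ * ((G.xg hb u)⁻¹)⁻¹ * ((G.xg ha 1)⁻¹)⁻¹ := by
    have e3 : (G.xg hb u)⁻¹ * (G.xg ha 1)⁻¹ * ((G.xg hb u)⁻¹)⁻¹ * ((G.xg ha 1)⁻¹)⁻¹ =
        (G.xg ha 1 * G.xg hb u)⁻¹ * (G.xg hb u * G.xg ha 1) := by group
    rw [e3, e1]
    group
  rw [e2]
  exact T.comm_mem_DD J (Subgroup.inv_mem _ (hAb u hu)) (Subgroup.inv_mem _ hAa)

end TwAut

namespace Good3

variable (G : Good3 D)

theorem adj_of_chk (l m : List (Fin D.rank)) {r : ℕ} (hr : r < D.nroots)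
    (h : ppT G.W (l.map Fin.val) (ppT G.W (m.map Fin.val) (ppT G.W (l.map Fin.val) (ppT G.W (m.map Fin.val) r))) ≠ r) :
    G.toGood2.pp l * G.toGood2.pp m * G.toGood2.pp l * G.toGood2.pp m ≠ 1 := by
  intro e
  apply h
  have h1 := congrArg (fun p : Equiv.Perm (Fin D.nroots) => ((p ⟨r, hr⟩ : Fin D.nroots) : ℕ)) e
  simp only [Equiv.Perm.mul_apply, Equiv.Perm.one_apply] at h1
  simp only [G.pp_val] at h1
  exact h1

end Good3

theorem conn_chain {ι : Type*} (a b c d : ι) (hall : ∀ i, i = a ∨ i = b ∨ i = c ∨ i = d) (R : ι → ι → Prop)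
    (hab : R a b) (hba : R b a) (hbc : R b c) (hcb : R c b) (hcd : R c d) (hdc : R d c) (P : ι → Prop)
    (h1 : ∃ i, P i) (h2 : ∃ i, ¬ P i) : ∃ i j, P i ∧ ¬ P j ∧ R i j := by
  by_contra hcon
  push Not at hcon
  have k : ∀ i j, R i j → P i → P j := by
    intro i j hR hP
    by_contra hj
    exact hcon i j hP hj hR
  have e1 : P a ↔ P b := ⟨k _ _ hab, k _ _ hba⟩
  have e2 : P b ↔ P c := ⟨k _ _ hbc, k _ _ hcb⟩
  have e3 : P c ↔ P d := ⟨k _ _ hcd, k _ _ hdc⟩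
  have all : ∀ i j, P i → P j := by
    intro i j hi
    have ha : P a := by
      rcases hall i with rfl | rfl | rfl | rfl
      · exact hi
      · exact e1.mpr hi
      · exact e1.mpr (e2.mpr hi)
      · exact e1.mpr (e2.mpr (e3.mpr hi))
    rcases hall j with rfl | rfl | rfl | rfl
    · exact ha
    · exact e1.mp ha
    · exact e2.mp (e1.mp ha)
    · exact e3.mp (e2.mp (e1.mp ha))
  obtain ⟨i, hi⟩ := h1
  obtain ⟨j, hj⟩ := h2
  exact hj (all i j hi)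

theorem conn_pair {ι : Type*} (a b : ι) (hall : ∀ i, i = a ∨ i = b) (R : ι → ι → Prop)
    (hab : R a b) (hba : R b a) (P : ι → Prop)
    (h1 : ∃ i, P i) (h2 : ∃ i, ¬ P i) : ∃ i j, P i ∧ ¬ P j ∧ R i j := by
  by_contra hcon
  push Not at hcon
  have k : ∀ i j, R i j → P i → P j := by
    intro i j hR hP
    by_contra hj
    exact hcon i j hP hj hR
  have e1 : P a ↔ P b := ⟨k _ _ hab, k _ _ hba⟩
  obtain ⟨i, hi⟩ := h1
  obtain ⟨j, hj⟩ := h2
  rcases hall i with rfl | rfl <;> rcases hall j with rfl | rfl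
  · exact hj hi
  · exact hj (e1.mp hi)
  · exact hj (e1.mpr hi)
  · exact hj hi

theorem exists_unit_ne_two {K : Type*} [Field K] [Fintype K] (h : 3 < Fintype.card K) : ∃ u : Kˣ, (u : K) ^ 2 ≠ 1 := by
  classical
  have h1 : ({1, -1} : Finset Kˣ).card < (Finset.univ : Finset Kˣ).card := by
    rw [Finset.card_univ, Fintype.card_units]
    have := Finset.card_le_two (a := (1 : Kˣ)) (b := -1)
    omega
  obtain ⟨u, -, hu⟩ := Finset.exists_mem_notMem_of_card_lt_card h1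
  refine ⟨u, fun h2 => hu ?_⟩
  have h3 : (u : K) * u = 1 := by rw [← pow_two]; exact h2
  rcases mul_self_eq_one_iff.mp h3 with h4 | h4
  · have : u = 1 := Units.ext (by simpa using h4)
    simp [this]
  · have : u = -1 := Units.ext (by simpa using h4)
    simp [this]

end Cfsg.Agent.Lib.Chev
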