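import Cfsg.Agent.Lib.Chev.Tw.G2d
import Cfsg.Agent.Lib.Chev.Tw.Pf

/-!
²G₂(q) is perfect and simple.
-/

set_option autoImplicit false
set_option maxRecDepth 1000000
set_option linter.unusedSimpArgs false
set_option linter.unusedVariables false
set_option linter.unusedSectionVars false

namespace Cfsg.Agent.Lib.Chev.TwG2

open Cfsg Cfsg.Lie Matrix Cfsg.Agent.Lib.BN Cfsg.Agent.Lib.Chev.Tw TabG2

variable {K : Type*} [Field K] [CharP K 3] (f : K ≃+* K)

theorem torus_u (u : Kˣ) {r : ℕ} (hr : r < chevG2.nroots) (t : K) :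
    good3.toGood2.torusHom (gc f u) * good3.xg hr t * (good3.toGood2.torusHom (gc f u))⁻¹ =
      good3.xg hr (((u ^ chevG2.cartan 0 r * (Units.map (f : K →* K) u ^ 3) ^ chevG2.cartan 1 r : Kˣ) : K) * t) := by
  refine (good3.toGood2.torus_conj_x _ hr t).trans ?_
  congr 2
  have h := Fin.prod_univ_two (fun i : Fin 2 => ((gc f u i ^ chevG2.cartan i r : Kˣ) : K))
  refine h.trans ?_
  have e0 : gc f u (0 : Fin 2) = u := rfl
  have e1 : gc f u (1 : Fin 2) = Units.map (f : K →* K) u ^ 3 := rfl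
  rw [e0, e1]
  simp

section

variable (u : Kˣ)

theorem cb (t : K) : good3.toGood2.torusHom (gc f u) * xb t * (good3.toGood2.torusHom (gc f u))⁻¹ =
    xb ((u : K)⁻¹ ^ 3 * f (u : K) ^ 6 * t) := by
  refine (torus_u f u _ t).trans ?_
  rw [show chevG2.cartan 0 6 = -3 by decide +kernel, show chevG2.cartan 1 6 = 2 by decide +kernel]
  congr 2
  simp
  ring

theorem ca (t : K) : good3.toGood2.torusHom (gc f u) * xa t * (good3.toGood2.torusHom (gc f u))⁻¹ =
    xa ((u : K) ^ 2 * (f (u : K))⁻¹ ^ 3 * t) := by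
  refine (torus_u f u _ t).trans ?_
  rw [show chevG2.cartan 0 7 = 2 by decide +kernel, show chevG2.cartan 1 7 = -1 by decide +kernel]
  congr 2
  simp

theorem cc (t : K) : good3.toGood2.torusHom (gc f u) * xc t * (good3.toGood2.torusHom (gc f u))⁻¹ =
    xc ((u : K)⁻¹ * f (u : K) ^ 3 * t) := by
  refine (torus_u f u _ t).trans ?_
  rw [show chevG2.cartan 0 8 = -1 by decide +kernel, show chevG2.cartan 1 8 = 1 by decide +kernel]
  congr 2
  simp

theorem cd (t : K) : good3.toGood2.torusHom (gc f u) * xd t * (good3.toGood2.torusHom (gc f u))⁻¹ =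
    xd ((u : K) * t) := by
  refine (torus_u f u _ t).trans ?_
  rw [show chevG2.cartan 0 9 = 1 by decide +kernel, show chevG2.cartan 1 9 = 0 by decide +kernel]
  congr 2
  simp

theorem ce (t : K) : good3.toGood2.torusHom (gc f u) * xe t * (good3.toGood2.torusHom (gc f u))⁻¹ =
    xe ((u : K) ^ 3 * (f (u : K))⁻¹ ^ 3 * t) := by
  refine (torus_u f u _ t).trans ?_
  rw [show chevG2.cartan 0 10 = 3 by decide +kernel, show chevG2.cartan 1 10 = -1 by decide +kernel]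
  congr 2
  simp

theorem ch (t : K) : good3.toGood2.torusHom (gc f u) * xh t * (good3.toGood2.torusHom (gc f u))⁻¹ =
    xh (f (u : K) ^ 3 * t) := by
  refine (torus_u f u _ t).trans ?_
  rw [show chevG2.cartan 0 11 = 0 by decide +kernel, show chevG2.cartan 1 11 = 1 by decide +kernel]
  congr 2
  simp

theorem cOm (p1 p2 p3 p4 p5 p6 : K) : good3.toGood2.torusHom (gc f u) * Om p1 p2 p3 p4 p5 p6 * (good3.toGood2.torusHom (gc f u))⁻¹ =
    Om ((u : K) ^ 2 * (f (u : K))⁻¹ ^ 3 * p1) ((u : K)⁻¹ ^ 3 * f (u : K) ^ 6 * p2) ((u : K)⁻¹ * f (u : K) ^ 3 * p3) ((u : K) * p4)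
      ((u : K) ^ 3 * (f (u : K))⁻¹ ^ 3 * p5) (f (u : K) ^ 3 * p6) := by
  unfold Om
  rw [← ca f u, ← cb f u, ← cc f u, ← cd f u, ← ce f u, ← ch f u]
  group

end

theorem Om_mul_z (p1 p2 p3 p4 p5 p6 a b c d : K) :
    Om p1 p2 p3 p4 p5 p6 * Om 0 0 a b c d = Om p1 p2 (p3 + a) (p4 + b) (p5 + c) (p6 + d) := by
  unfold Om
  have h := zz_mul p3 p4 p5 p6 a b c d
  simp only [good3.xg_zero, one_mul]
  calc xa p1 * xb p2 * xc p3 * xd p4 * xe p5 * xh p6 * (xc a * xd b * xe c * xh d)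
      = xa p1 * xb p2 * ((xc p3 * xd p4 * xe p5 * xh p6) * (xc a * xd b * xe c * xh d)) := by group
    _ = _ := by rw [h]; group

theorem sub_cube (a b : K) : (a - b) ^ 3 = a ^ 3 - b ^ 3 := by
  have := add_cube a (-b)
  rw [sub_eq_add_neg, this]
  ring

variable (hf3 : ∀ t, f (f t) ^ 3 = t)
include hf3

theorem WW_factor (t p r : K) : WW f t p r = WW f t 0 0 * (WW f 0 p 0 * WW f 0 0 r) := by
  have e1 : WW f 0 p 0 * WW f 0 0 r = WW f 0 p r := by
    unfold WW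
    simp only [map_zero, zero_mul, mul_zero, zero_add, add_zero]
    have := Om_mul_z (0 : K) 0 (f p) 0 p 0 0 (f r) 0 r
    simp only [add_zero, zero_add] at this
    simpa using this
  rw [e1]
  unfold WW
  simp only [map_zero, zero_mul, mul_zero, zero_add, add_zero]
  have := Om_mul_z (f t) t (f t * t) (f t ^ 2 * t) 0 0 (f p) (f r) p r
  simp only [zero_add] at this
  have h0 : (0 : K) ^ 2 * 0 = 0 := by ring
  simpa using this.symm

theorem f_y (A : K) : f (A⁻¹ ^ 3 * f A ^ 6) = A ^ 2 * (f A)⁻¹ ^ 3 := by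
  have h := hf3 A
  simp only [map_mul, map_pow, map_inv₀]
  rw [show f (f A) ^ 6 = (f (f A) ^ 3) ^ 2 by ring, h]
  ring

theorem WW_conj (u : Kˣ) (t p r : K) : good3.toGood2.torusHom (gc f u) * WW f t p r * (good3.toGood2.torusHom (gc f u))⁻¹ =
    WW f ((u : K)⁻¹ ^ 3 * f (u : K) ^ 6 * t) ((u : K) ^ 3 * (f (u : K))⁻¹ ^ 3 * p) (f (u : K) ^ 3 * r) := by
  unfold WW
  rw [cOm]
  have h := hf3 (u : K)
  have hA : (u : K) ≠ 0 := u.ne_zero
  have hB : f (u : K) ≠ 0 := by simp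
  generalize hAe : (u : K) = A at *
  have e1 : f (A⁻¹ ^ 3 * f A ^ 6 * t) = A ^ 2 * (f A)⁻¹ ^ 3 * f t := by
    rw [map_mul, f_y f hf3]
  have e2 : f (A ^ 3 * (f A)⁻¹ ^ 3 * p) = A⁻¹ * f A ^ 3 * f p := by
    simp only [map_mul, map_pow, map_inv₀]
    rw [inv_pow (f (f A)), h]
    field_simp
  have e3 : f (f A ^ 3 * r) = A * f r := by
    simp only [map_mul, map_pow]
    rw [h]
  rw [e1, e2, e3]
  congr 1
  · field_simp
  · field_simp

theorem WW_fst {t t' t'' p r : K} (h : WW f t 0 0 * WW f t' 0 0 = WW f t'' p r) : t'' = t + t' := by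
  unfold WW at h
  rw [Om_eq, Om_eq, Om_eq] at h
  obtain ⟨y1, hy1, e1⟩ := Tab_split (t) (f t) (f t * t + f 0 - t * f t) (f t ^ 2 * t + f 0 - t * f t ^ 2) (0 + t * f t ^ 3) (0 + t ^ 2 * f t ^ 3)
  obtain ⟨y2, hy2, e2⟩ := Tab_split (t') (f t') (f t' * t' + f 0 - t' * f t') (f t' ^ 2 * t' + f 0 - t' * f t' ^ 2) (0 + t' * f t' ^ 3) (0 + t' ^ 2 * f t' ^ 3)
  obtain ⟨y3, hy3, e3⟩ := Tab_split (t'') (f t'') (f t'' * t'' + f p - t'' * f t'') (f t'' ^ 2 * t'' + f r - t'' * f t'' ^ 2) (p + t'' * f t'' ^ 3) (r + t'' ^ 2 * f t'' ^ 3)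
  rw [e1, e2, e3] at h
  have hk := good3.x_conj_UJ (J := {x | x ∈ ([1] : List ℕ)}) (r := 6) (Or.inl ((good3.toGood2.pos_iff h6).mpr (by decide))) h6 t' hy1
  have e4 : xb t * y1 * (xb t' * y2) = xb (t + t') * ((xb (-t') * y1 * xb t') * y2) := by
    have e5 : xb (t + t') = xb t * xb t' := (good3.xg_mul h6 t t').symm
    have e6 : xb (-t') = (xb t')⁻¹ := (good3.xg_inv h6 t').symm
    rw [e5, e6]
    group
  rw [e4] at h
  have := (TT f).coord_inj lin (a := 1) (by decide) (J := [1]) (by simp) (Subgroup.mul_mem _ hk hy2) hy3 h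
  exact this.symm

theorem X1_mem (t p r : K) : WW f t p r ∈ (TT f).AA JJ := (TT f).X_le_AA JJ 0 ((X_iff f hf3).mpr ⟨t, p, r, rfl⟩)

variable {u : Kˣ} (hu : (u : K) ^ 2 ≠ 1) (hA : good3.toGood2.torusHom (gc f u) ∈ (TT f).AA JJ)
include hu hA

omit hA in
theorem chi3 : f (u : K) ^ 3 ≠ 1 := by
  intro h
  have h1 : f (u : K) = 1 := by
    have h2 : (f (u : K) - 1) ^ 3 = 0 := by
      rw [sub_cube, h]
      simp
    have := pow_eq_zero_iff (n := 3) (by norm_num) |>.mp h2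
    exact sub_eq_zero.mp this
  have h2 : (u : K) = 1 := by
    apply f.injective
    rw [h1, map_one]
  apply hu
  rw [h2, one_pow]

omit hA in
theorem chi2 : (u : K) ^ 3 * (f (u : K))⁻¹ ^ 3 ≠ 1 := by
  intro h
  have hB : f (u : K) ≠ 0 := by simp
  have h1 : (u : K) ^ 3 = f (u : K) ^ 3 := by
    field_simp at h
    exact h
  have h2 : (u : K) = f (u : K) := by
    have h3 : ((u : K) - f (u : K)) ^ 3 = 0 := by
      rw [sub_cube, h1, sub_self]
    have := pow_eq_zero_iff (n := 3) (by norm_num) |>.mp h3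
    exact sub_eq_zero.mp this
  have h3 := hf3 (u : K)
  rw [← h2, ← h2] at h3
  apply hu
  have hA0 : (u : K) ≠ 0 := u.ne_zero
  apply mul_left_cancel₀ hA0
  rw [mul_one, ← pow_succ', h3]

omit hA in
theorem chi1 : (u : K)⁻¹ ^ 3 * f (u : K) ^ 6 ≠ 1 := by
  intro h
  have hA0 : (u : K) ≠ 0 := u.ne_zero
  have h1 : f (u : K) ^ 6 = (u : K) ^ 3 := by
    field_simp at h
    exact h
  have h2 : f (u : K) ^ 2 = (u : K) := by
    have h3 : (f (u : K) ^ 2 - (u : K)) ^ 3 = 0 := by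
      rw [sub_cube, ← pow_mul, h1, sub_self]
    have := pow_eq_zero_iff (n := 3) (by norm_num) |>.mp h3
    exact sub_eq_zero.mp this
  have h3 := hf3 (u : K)
  -- the element `C = f (f u)`
  have h4 : f (f (u : K)) ^ 2 = f (u : K) := by
    rw [← map_pow, h2]
  set C := f (f (u : K)) with hC
  have hC0 : C ≠ 0 := by
    rw [hC]
    simpa using u.ne_zero
  have h5 : C = 1 := by
    have h6 : C ^ 3 = C ^ 4 := by
      rw [h3, ← h2, ← h4]
      ring
    have h7 : C ^ 3 * C = C ^ 3 * 1 := by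
      calc C ^ 3 * C = C ^ 4 := by ring
        _ = C ^ 3 := h6.symm
        _ = C ^ 3 * 1 := by ring
    exact mul_left_cancel₀ (pow_ne_zero 3 hC0) h7
  apply hu
  rw [← h3, h5]
  simp

theorem D3 (r : K) : WW f 0 0 r ∈ (TT f).DD JJ := by
  refine (TT f).scale_mem' JJ (ξ := fun r => WW f 0 0 r) (fun r => X1_mem f hf3 0 0 r) (fun a b => ?_) hA
    (chi3 f hf3 hu) (fun r => ?_) r
  · show WW f 0 0 a * WW f 0 0 b = WW f 0 0 (a + b)
    unfold WW
    simp only [map_zero, zero_mul, mul_zero, zero_add, add_zero]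
    have := Om_mul_z (0 : K) 0 0 (f a) 0 a 0 (f b) 0 b
    simpa using this
  · refine (WW_conj f hf3 u 0 0 r).trans ?_
    rw [mul_zero, mul_zero]

theorem D2 (p : K) : WW f 0 p 0 ∈ (TT f).DD JJ := by
  refine (TT f).scale_mem' JJ (ξ := fun p => WW f 0 p 0) (fun p => X1_mem f hf3 0 p 0) (fun a b => ?_) hA
    (chi2 f hf3 hu) (fun p => ?_) p
  · show WW f 0 a 0 * WW f 0 b 0 = WW f 0 (a + b) 0
    unfold WW
    simp only [map_zero, zero_mul, mul_zero, zero_add, add_zero]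
    have := Om_mul_z (0 : K) 0 (f a) 0 a 0 (f b) 0 b 0
    simpa using this
  · refine (WW_conj f hf3 u 0 p 0).trans ?_
    rw [mul_zero, mul_zero]

theorem D1 (t : K) : WW f t 0 0 ∈ (TT f).DD JJ := by
  refine (TT f).scale_mem JJ (ξ := fun t => WW f t 0 0) (fun t => X1_mem f hf3 t 0 0) (fun a b => ?_) hA
    (chi1 f hf3 hu) (fun t => ?_) t
  · show (WW f (a + b) 0 0)⁻¹ * (WW f a 0 0 * WW f b 0 0) ∈ _
    have hm : WW f a 0 0 * WW f b 0 0 ∈ (TT f).XJ [0, 1] :=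
      Subgroup.mul_mem _ ((X_iff f hf3).mpr ⟨a, 0, 0, rfl⟩) ((X_iff f hf3).mpr ⟨b, 0, 0, rfl⟩)
    obtain ⟨t'', p, r, e⟩ := (X_iff f hf3).mp hm
    have e2 := WW_fst f hf3 e
    rw [e, e2, WW_factor f hf3 (a + b) p r, inv_mul_cancel_left]
    exact Subgroup.mul_mem _ (D2 f hf3 hu hA p) (D3 f hf3 hu hA r)
  · refine (WW_conj f hf3 u t 0 0).trans ?_
    rw [mul_zero, mul_zero]

theorem D (t p r : K) : WW f t p r ∈ (TT f).DD JJ := by
  rw [WW_factor f hf3]
  exact Subgroup.mul_mem _ (D1 f hf3 hu hA t) (Subgroup.mul_mem _ (D2 f hf3 hu hA p) (D3 f hf3 hu hA r))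

theorem X_le_DD (i : Fin 1) : (TT f).XJ (JJ i) ≤ (TT f).DD JJ := by
  intro x hx
  fin_cases i
  obtain ⟨t, p, r, rfl⟩ := (X_iff f hf3).mp hx
  exact D f hf3 hu hA t p r

theorem perfect : commutator ↥((TT f).AA JJ) = ⊤ :=
  (sys f hf3).perfect_of_X (X_le_DD f hf3 hu hA)

theorem simple_AA : IsSimpleGroup ↥((TT f).AA JJ) ∧ ¬ IsMulCommutative ↥((TT f).AA JJ) := by
  obtain ⟨c, hc, hne⟩ := (sys f hf3).ntX 0
  refine (sys f hf3).simple_of_perfect' (perfect f hf3 hu hA) (core_bot f hf3) ?_ hc hne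
  rintro P ⟨i, hi⟩ ⟨j, hj⟩
  exact absurd hi (by rwa [Subsingleton.elim i j])

end Cfsg.Agent.Lib.Chev.TwG2
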